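import Groth.Agent.Lib.Helper23.IndCof.EndoCalc
import Mathlib.RingTheory.Coprime.Lemmas
import Mathlib.RingTheory.Int.Basic

/-!
# Helper23 — IndCof.Bezout: coprime torsion parts in an abelian category
-/

set_option autoImplicit false
universe v u

namespace Groth.Agent.Lib.Helper23.IndCof

open CategoryTheory
open CategoryTheory.Limits hiding im
open Groth.Agent.Lib.Helper23.AR.SubCalc Groth.Agent.Lib.Helper8.SubLat1

variable {𝒜 : Type u} [Category.{v} 𝒜] [Abelian 𝒜]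

lemma bezout_comp {X A : 𝒜} (ι : X ⟶ A) {m n : ℕ} (h : Nat.Coprime m n) :
    ∃ a b : ℤ, ι = a • (ι ≫ mu A m) + b • (ι ≫ mu A n) := by
  obtain ⟨a, b, hab⟩ := (Nat.isCoprime_iff_coprime.2 h)
  refine ⟨a, b, ?_⟩
  have h1 : ι ≫ mu A m = (m : ℤ) • ι := by rw [comp_mu, natCast_zsmul]
  have h2 : ι ≫ mu A n = (n : ℤ) • ι := by rw [comp_mu, natCast_zsmul]
  rw [h1, h2, smul_smul, smul_smul, ← add_smul, hab, one_smul]

lemma K_arrow_comp_mu (A : 𝒜) (m : ℕ) : (K A m).arrow ≫ mu A m = 0 :=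
  kernelSubobject_arrow_comp _

lemma K_factors_iff (A : 𝒜) (m : ℕ) {Z : 𝒜} (z : Z ⟶ A) : (K A m).Factors z ↔ z ≫ mu A m = 0 :=
  kernelSubobject_factors_iff _ _

lemma D_factors_comp (A : 𝒜) (m : ℕ) {Z : 𝒜} (z : Z ⟶ A) : (D A m).Factors (z ≫ mu A m) :=
  imageSubobject_factors_comp_self (f := mu A m) z

lemma le_K_iff (A : 𝒜) (m : ℕ) (S : Subobject A) : S ≤ K A m ↔ S.arrow ≫ mu A m = 0 := by
  rw [← K_factors_iff]
  exact ⟨fun h => Subobject.factors_of_le _ h (Subobject.factors_self S),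
    fun h => Subobject.le_of_factors h⟩

lemma eq_bot_of_arrow_eq_zero {A : 𝒜} (S : Subobject A) (h : S.arrow = 0) : S = ⊥ := by
  rw [eq_bot_iff]
  apply Subobject.le_of_factors
  rw [h]
  exact Subobject.factors_zero

lemma K_inf_K_of_coprime (A : 𝒜) {m n : ℕ} (h : Nat.Coprime m n) : K A m ⊓ K A n = ⊥ := by
  apply eq_bot_of_arrow_eq_zero
  obtain ⟨a, b, hab⟩ := bezout_comp (K A m ⊓ K A n).arrow h
  rw [hab, (le_K_iff A m _).1 inf_le_left, (le_K_iff A n _).1 inf_le_right, smul_zero, smul_zero,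
    add_zero]

lemma factors_zsmul {A Z : 𝒜} (S : Subobject A) (z : Z ⟶ A) (a : ℤ) (h : S.Factors z) :
    S.Factors (a • z) := by
  have : a • z = (a • 𝟙 Z) ≫ z := by rw [Preadditive.zsmul_comp, Category.id_comp]
  rw [this]
  exact Subobject.factors_of_factors_right _ h

lemma K_mul_le_sup (A : 𝒜) {m n : ℕ} (h : Nat.Coprime m n) : K A (m * n) ≤ K A m ⊔ K A n := by
  apply Subobject.le_of_factors
  obtain ⟨a, b, hab⟩ := bezout_comp (K A (m * n)).arrow h
  rw [hab]
  apply Subobject.factors_add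
  · apply factors_zsmul
    apply Subobject.factors_of_le _ le_sup_right
    rw [K_factors_iff, Category.assoc, mu_comp, K_arrow_comp_mu]
  · apply factors_zsmul
    apply Subobject.factors_of_le _ le_sup_left
    rw [K_factors_iff, Category.assoc, mu_comp, mul_comm, K_arrow_comp_mu]

lemma K_le_D_of_coprime (A : 𝒜) {m n : ℕ} (h : Nat.Coprime m n) : K A m ≤ D A n := by
  apply Subobject.le_of_factors
  obtain ⟨a, b, hab⟩ := bezout_comp (K A m).arrow h
  rw [hab, K_arrow_comp_mu, smul_zero, zero_add]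
  have : b • ((K A m).arrow ≫ mu A n) = (b • (K A m).arrow) ≫ mu A n := by
    rw [Preadditive.zsmul_comp]
  rw [this]
  exact D_factors_comp A n _

/-- every positive integer is a divisor of a power of `n` times an integer prime to `n`. -/
lemma exists_decomp (n : ℕ) : ∀ m : ℕ, 0 < m →
    ∃ m₁ m₂ i : ℕ, m = m₁ * m₂ ∧ m₁ ∣ n ^ i ∧ Nat.Coprime m₂ n := by
  intro m
  induction m using Nat.strong_induction_on with
  | _ m ih =>
    intro hm
    by_cases hc : Nat.Coprime m n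
    · exact ⟨1, m, 0, (one_mul m).symm, by simp, hc⟩
    · have hg1 : Nat.gcd m n ≠ 1 := hc
      have hg0 : 0 < Nat.gcd m n := Nat.gcd_pos_of_pos_left n hm
      obtain ⟨m', hm'⟩ := Nat.gcd_dvd_left m n
      have hm'pos : 0 < m' := by
        rcases Nat.eq_zero_or_pos m' with h0 | h0
        · rw [h0, mul_zero] at hm'
          omega
        · exact h0
      have hlt : m' < m := by
        have h2 : 2 ≤ Nat.gcd m n := by omega
        calc m' < 2 * m' := by omega
          _ ≤ Nat.gcd m n * m' := Nat.mul_le_mul_right m' h2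
          _ = m := hm'.symm
      obtain ⟨m₁, m₂, i, h1, h2, h3⟩ := ih m' hlt hm'pos
      refine ⟨Nat.gcd m n * m₁, m₂, i + 1, ?_, ?_, h3⟩
      · rw [mul_assoc, ← h1]
        exact hm'
      · rw [pow_succ, mul_comm (n ^ i) n]
        exact mul_dvd_mul (Nat.gcd_dvd_right m n) h2

/-- `A[m] ≤ A[n^i] + A[m₂]` with `m₂` prime to `n`. -/
lemma exists_K_le_sup (A : 𝒜) (n m : ℕ) (hm : 0 < m) :
    ∃ i m₂ : ℕ, Nat.Coprime m₂ n ∧ K A m ≤ K A (n ^ i) ⊔ K A m₂ := by
  obtain ⟨m₁, m₂, i, h1, h2, h3⟩ := exists_decomp n m hm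
  refine ⟨i, m₂, h3, ?_⟩
  have hc : Nat.Coprime m₁ m₂ :=
    Nat.Coprime.coprime_dvd_left h2 (Nat.Coprime.pow_left i h3.symm)
  rw [h1]
  exact (K_mul_le_sup A hc).trans (sup_le_sup_right (K_le_of_dvd A h2) _)

end Groth.Agent.Lib.Helper23.IndCof
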