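import Groth.Agent.Lib.Helper23.IndCof.DivPart

/-!
# Helper23 — IndCof.Chain: the descending chain condition for cofinite type subobjects
-/

set_option autoImplicit false
set_option linter.style.haveILetI false
set_option linter.unusedSectionVars false
universe w v u

namespace Groth.Agent.Lib.Helper23.IndCof

open CategoryTheory
open CategoryTheory.Limits hiding im
open Groth.Agent.Lib.Helper23.AR.SubCalc Groth.Agent.Lib.Helper8.SubLat1

variable {C : Type v} [SmallCategory C] [Abelian C]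

/-- **S14495**. -/
theorem chain_stab (hart : ∀ X : C, IsArtinianObject X) (p : ℕ)
    (htor : ∀ X : C, ∃ n : ℕ, (p ^ n) • 𝟙 X = 0)
    (A : Ind C) (S : ℕ → Subobject A) (hS : Antitone S)
    (hcof : ∀ m n : ℕ, E (kernel ((p ^ n) • 𝟙 ((S m : Subobject A) : Ind C)))) :
    ∃ N : ℕ, ∀ m : ℕ, N ≤ m → S m = S N := by
  have hst : ∀ m, ∃ N : ℕ, ∀ k : ℕ, N ≤ k →
      D ((S m : Subobject A) : Ind C) (p ^ k) = D ((S m : Subobject A) : Ind C) (p ^ N) :=
    fun m => exists_D_stab p _ hart htor (hcof m)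
  choose Nn hNn using hst
  let Dv : ℕ → Subobject A := fun m => im (mu A (p ^ Nn m)) (S m)
  have hDv_eq : ∀ m, im (S m).arrow (D ((S m : Subobject A) : Ind C) (p ^ Nn m)) = Dv m :=
    fun m => im_arrow_D _ _
  have hDv_le : ∀ m, Dv m ≤ S m := by
    intro m
    rw [← hDv_eq]
    exact im_arrow_le _ _
  have hDv_div : ∀ m, im (mu A p) (Dv m) = Dv m := by
    intro m
    show im (mu A p) (im (mu A (p ^ Nn m)) (S m)) = im (mu A (p ^ Nn m)) (S m)
    rw [← im_comp, mu_comp, ← pow_succ, ← im_arrow_D, hNn m (Nn m + 1) (by omega), im_arrow_D]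
  have hDv_max : ∀ m (D' : Subobject A), D' ≤ S m → im (mu A p) D' = D' → D' ≤ Dv m :=
    fun m D' h1 h2 => le_im_of_div D' (S m) p h2 h1 (Nn m)
  have hDv_anti : Antitone Dv := antitone_nat_of_succ_le (fun m =>
    hDv_max m _ ((hDv_le (m + 1)).trans (hS (Nat.le_succ m))) (hDv_div (m + 1)))
  have hE1 : ∀ m, E ((Dv m ⊓ K A p : Subobject A) : Ind C) := by
    intro m
    have e : im (S m).arrow (D ((S m : Subobject A) : Ind C) (p ^ Nn m) ⊓
        K ((S m : Subobject A) : Ind C) p) = Dv m ⊓ K A p := by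
      rw [← pb_arrow_K, im_inf_pb, hDv_eq]
    exact E_of_iso ((underlyingIsoIm (S m).arrow _).symm ≪≫ Subobject.isoOfEq _ _ e)
      (E_D_inf_K p _ (hcof m) (Nn m))
  obtain ⟨M₀, hM₀⟩ := dcc_E hart (fun m => Dv m ⊓ K A p)
    (fun i j hij => inf_le_inf_right _ (hDv_anti hij)) hE1
  have h1 := iSup_K_eq_top p htor A
  have hDv_const : ∀ m, M₀ ≤ m → Dv m = Dv M₀ := by
    intro m hm
    apply le_antisymm (hDv_anti hm)
    apply div_le_of_torsion_le p h1 (Dv m) (Dv M₀) (hDv_anti hm) (hDv_div m) (hDv_div M₀)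
    have := hM₀ m hm
    rw [← this]
    exact inf_le_left
  let T : ℕ → Subobject (cokernel (Dv M₀).arrow) :=
    fun n => im (cokernel.π (Dv M₀).arrow) (S (M₀ + n))
  have hT_anti : Antitone T := fun i j hij => im_mono _ (hS (by omega))
  have hE2 : ∀ n, E ((T n : Subobject (cokernel (Dv M₀).arrow)) : Ind C) := by
    intro n
    have hk : kernelSubobject ((S (M₀ + n)).arrow ≫ cokernel.π (Dv M₀).arrow) =
        D ((S (M₀ + n) : Subobject A) : Ind C) (p ^ Nn (M₀ + n)) := by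
      rw [← pb_bot, pb_comp, pb_cokernel_π_bot, ← hDv_const (M₀ + n) (by omega), ← hDv_eq,
        pb_im_of_mono]
    apply E_of_iso (imageSubobjectIsoCokernel
      ((S (M₀ + n)).arrow ≫ cokernel.π (Dv M₀).arrow)).symm
    rw [hk]
    exact E_of_iso (cokernelImageSubobjectIso (mu _ (p ^ Nn (M₀ + n))))
      (E_cokernel_mu p _ hart htor (hcof _) _)
  obtain ⟨N', hN'⟩ := dcc_E hart T hT_anti hE2
  have hrec : ∀ n, pb (cokernel.π (Dv M₀).arrow) (T n) = S (M₀ + n) := by
    intro n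
    show pb _ (im _ (S (M₀ + n))) = _
    rw [pb_im, kernelSubobject_cokernel_π]
    exact sup_eq_left.2 ((hDv_const (M₀ + n) (by omega)).ge.trans (hDv_le _))
  refine ⟨M₀ + N', fun m hm => ?_⟩
  obtain ⟨n, rfl⟩ : ∃ n, m = M₀ + n := ⟨m - M₀, by omega⟩
  rw [← hrec n, ← hrec N', hN' n (by omega)]

end Groth.Agent.Lib.Helper23.IndCof
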