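import Groth.Agent.Lib.Helper23.IndCof.Stab
import Groth.Agent.Lib.Helper8.SubLat2

/-!
# Helper23 — IndCof.Coker: the quotients `A / p^n A` of a cofinite type ind-object
-/

set_option autoImplicit false
set_option linter.style.haveILetI false
set_option linter.unusedSectionVars false
universe w v u

namespace Groth.Agent.Lib.Helper23.IndCof

open CategoryTheory
open CategoryTheory.Limits hiding im
open Groth.Agent.Lib.Helper23.AR.SubCalc Groth.Agent.Lib.Helper8.SubLat1
open Groth.Agent.Lib.Helper8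

section Abstract

variable {𝒜 : Type u} [Category.{v} 𝒜] [Abelian 𝒜]

/-- the cokernel of a morphism is the cokernel of its image subobject. -/
noncomputable def cokernelImageSubobjectIso {A B : 𝒜} (f : A ⟶ B) :
    cokernel f ≅ cokernel (imageSubobject f).arrow :=
  (cokernelIsoOfEq (imageSubobject_arrow_comp f).symm) ≪≫
    cokernelEpiComp (factorThruImageSubobject f) (imageSubobject f).arrow

/-- the cokernel of `x ⟶ ⊤`. -/
noncomputable def cokernelOfLETopIso {A : 𝒜} (x : Subobject A) :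
    cokernel (Subobject.ofLE x ⊤ le_top) ≅ cokernel x.arrow :=
  (cokernelCompIsIso (Subobject.ofLE x ⊤ le_top) (⊤ : Subobject A).arrow).symm ≪≫
    cokernelIsoOfEq (Subobject.ofLE_arrow le_top)

/-- second isomorphism theorem when `x ⊔ y = ⊤`. -/
lemma nonempty_cokernel_iso_of_sup_eq_top {A : 𝒜} (x y : Subobject A) (h : x ⊔ y = ⊤) :
    Nonempty (cokernel x.arrow ≅ cokernel (Subobject.ofLE (x ⊓ y) y inf_le_right)) := by
  have key : ∀ (z : Subobject A) (hz : x ⊔ y = z),
      Nonempty (cokernel (Subobject.ofLE x (x ⊔ y) le_sup_left) ≅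
        cokernel (Subobject.ofLE x z (hz ▸ le_sup_left))) := by
    intro z hz
    subst hz
    exact ⟨Iso.refl _⟩
  obtain ⟨e⟩ := key ⊤ h
  exact ⟨(cokernelOfLETopIso x).symm ≪≫ e.symm ≪≫ SubLat2.secondIso x y⟩

lemma D_sup_K_eq_top (A : 𝒜) (m : ℕ) (h : D A (m * m) = D A m) : D A m ⊔ K A m = ⊤ := by
  rw [← pb_im_mu, im_D, h, D_eq, pb_im_mu]
  exact top_sup_eq _

end Abstract

section Ind

variable {C : Type v} [SmallCategory C] [Abelian C]

lemma E_of_shortExact (S : ShortComplex (Ind C)) (hS : S.ShortExact) (h1 : E S.X₁)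
    (h2 : E S.X₂) : E S.X₃ :=
  E_of_iso (IsColimit.coconePointUniqueUpToIso (colimit.isColimit _) hS.gIsCokernel)
    (E_cokernel S.f h1 h2)

/-- if `x + y = A` with `y` and `x ∩ y` in the essential image, then so is `A / x`. -/
lemma E_cokernel_arrow_of_sup_eq_top {A : Ind C} (x y : Subobject A) (h : x ⊔ y = ⊤)
    (hy : E ((y : Subobject A) : Ind C)) (hxy : E ((x ⊓ y : Subobject A) : Ind C)) :
    E (cokernel x.arrow) := by
  obtain ⟨e⟩ := nonempty_cokernel_iso_of_sup_eq_top x y h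
  exact E_of_iso e.symm (E_cokernel _ hxy hy)

variable (p : ℕ) (A : Ind C)

/-- `p^n A ∩ A[p^k]` is in the essential image. -/
lemma E_D_inf_K' (hA : ∀ n : ℕ, E (kernel ((p ^ n) • 𝟙 A))) (n k : ℕ) :
    E ((D A (p ^ n) ⊓ K A (p ^ k) : Subobject A) : Ind C) := by
  rw [← im_K]
  refine E_im _ _ (K A (p ^ k)) ?_ (E_K p A hA k) ?_
  · have h := E_K p A hA (n + k)
    rwa [pow_add] at h
  · rw [im_K]
    exact inf_le_right

/-- if `p^n A` is constant for `n ≥ N` then `p^n A + A[p^N] = A` for all `n`. -/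
lemma D_sup_K_eq_top_of_stab (N : ℕ) (hN : ∀ n : ℕ, N ≤ n → D A (p ^ n) = D A (p ^ N)) (n : ℕ) :
    D A (p ^ n) ⊔ K A (p ^ N) = ⊤ := by
  have h1 : D A (p ^ N) ⊔ K A (p ^ N) = ⊤ := by
    apply D_sup_K_eq_top
    rw [← pow_add]
    exact hN _ (by omega)
  have h2 : D A (p ^ N) ≤ D A (p ^ n) := by
    rw [← hN (max n N) (le_max_right _ _)]
    exact D_pow_anti A p (le_max_left _ _)
  exact top_unique (h1.symm.le.trans (sup_le_sup_right h2 _))

/-- **S14492**: `A / p^n A` is in the essential image. -/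
theorem E_cokernel_mu (hart : ∀ X : C, IsArtinianObject X)
    (htor : ∀ X : C, ∃ n : ℕ, (p ^ n) • 𝟙 X = 0)
    (hA : ∀ n : ℕ, E (kernel ((p ^ n) • 𝟙 A))) (n : ℕ) :
    E (cokernel ((p ^ n) • 𝟙 A)) := by
  obtain ⟨N, hN⟩ := exists_D_stab p A hart htor hA
  have h1 := D_sup_K_eq_top_of_stab p A N hN n
  have h2 : E (cokernel (D A (p ^ n)).arrow) :=
    E_cokernel_arrow_of_sup_eq_top _ _ h1 (E_K p A hA N) (E_D_inf_K' p A hA n N)
  exact E_of_iso (cokernelImageSubobjectIso (mu A (p ^ n))).symm h2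

end Ind

end Groth.Agent.Lib.Helper23.IndCof
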