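import Groth.Agent.Lib.Helper23.IndCof.Divisible
import Mathlib.Data.Nat.Factorization.Induction

/-!
# Helper23 — IndCof.DivML: divisibly Mittag-Leffler cofinite type ind-objects
-/

set_option autoImplicit false
set_option linter.style.haveILetI false
set_option linter.unusedSectionVars false
universe w v u

namespace Groth.Agent.Lib.Helper23.IndCof

open CategoryTheory
open CategoryTheory.Limits hiding im
open Groth.Agent.Lib.Helper23.AR.SubCalc Groth.Agent.Lib.Helper8.SubLat1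

section Abstract

variable {𝒜 : Type u} [Category.{v} 𝒜] [Abelian 𝒜]

lemma D_eq_top_of_epi (A : 𝒜) (m : ℕ) [Epi (mu A m)] : D A m = ⊤ := by
  rw [eq_top_iff]
  apply Subobject.le_of_factors
  unfold D
  rw [imageSubobject_factors_iff]
  obtain ⟨Z', π, hπ, x, hx⟩ := surjective_up_to_refinements_of_epi (mu A m) (⊤ : Subobject A).arrow
  exact ⟨Z', π, hπ, x, hx⟩

lemma epi_of_D_eq_top (A : 𝒜) (m : ℕ) (h : D A m = ⊤) : Epi (mu A m) := by
  unfold D at h
  haveI : IsIso (imageSubobject (mu A m)).arrow := (Subobject.isIso_arrow_iff_eq_top _).2 h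
  rw [← imageSubobject_arrow_comp (mu A m)]
  infer_instance

lemma im_top_of_epi {A B : 𝒜} (f : A ⟶ B) [Epi f] : im f ⊤ = ⊤ := by
  have h := im_pb_of_epi f ⊤
  rwa [show pb f ⊤ = ⊤ from Subobject.pullback_top f] at h

/-- if `B'` is `p`-divisible and `p` is prime to an integer killing `A / B'` then `A` is
`p`-divisible. -/
lemma epi_mu_of_coprime_of_div {A : 𝒜} (B' : Subobject A) (M p : ℕ)
    (hB' : im (mu A p) B' = B') (hM : mu (cokernel B'.arrow) M = 0) (hc : Nat.Coprime M p) :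
    Epi (mu A p) := by
  apply epi_of_D_eq_top
  have h1 : B' ≤ D A p := by
    rw [← hB', D_eq]
    exact im_mono _ le_top
  have hK : K (cokernel B'.arrow) M = ⊤ := by
    rw [eq_top_iff, le_K_iff, hM, comp_zero]
  have h2 : im (cokernel.π B'.arrow) (D A p) = ⊤ := by
    rw [D_eq, ← im_comp, mu_naturality, im_comp, im_top_of_epi, ← D_eq, eq_top_iff, ← hK]
    exact K_le_D_of_coprime _ hc
  have h3 : pb (cokernel.π B'.arrow) (im (cokernel.π B'.arrow) (D A p)) = D A p := by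
    rw [pb_im, kernelSubobject_cokernel_π]
    exact sup_eq_left.2 h1
  rw [← h3, h2]
  exact Subobject.pullback_top _

end Abstract

section Ind

variable {C : Type v} [SmallCategory C] [Abelian C] {A : Ind C}

/-- Lemma X: the quotient by a divisible subobject with bounded quotient is in the essential
image. -/
lemma Cof.E_cokernel_of_isDiv (hA : Cof A) (hart : ∀ X : C, IsArtinianObject X)
    (htor : ∀ X : C, ∃ n : ℕ, 0 < n ∧ n • 𝟙 X = 0) (B' : Subobject A) (hdiv : IsDiv B')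
    (M : ℕ) (hM : 0 < M) (hMB : mu (cokernel B'.arrow) M = 0) : E (cokernel B'.arrow) := by
  have h1 : IndCof.divPart A ≤ B' :=
    (mittagLeffler_iff A).2 B' ((isDiv_iff_epi B').1 hdiv) ⟨M, hM, hMB⟩ (IndCof.divPart A)
      ((isDiv_iff_epi _).1 (isDiv_divPart A))
  obtain rfl : B' = IndCof.divPart A := le_antisymm (le_divPart B' hdiv) h1
  exact (hA.cokernel_divPart hart htor).E_of_mu_eq_zero M hM hMB

/-- (iii) ⇒ bounded divisible: if multiplication by `p` is an epimorphism for almost all primes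
then `M A` is divisible for a suitable `M > 0`. -/
lemma Cof.exists_isDiv_D (hA : Cof A) (hart : ∀ X : C, IsArtinianObject X)
    (htor : ∀ X : C, ∃ n : ℕ, 0 < n ∧ n • 𝟙 X = 0)
    (hfin : {p : ℕ | p.Prime ∧ ¬ Epi (mu A p)}.Finite) :
    ∃ M : ℕ, 0 < M ∧ IsDiv (D A M) := by
  classical
  have hst : ∀ n : ℕ, ∃ N : ℕ, 0 < n → ∀ k : ℕ, N ≤ k → D A (n ^ k) = D A (n ^ N) := by
    intro n
    by_cases hn : 0 < n
    · obtain ⟨N, hN⟩ := hA.exists_D_stab hart htor n hn
      exact ⟨N, fun _ => hN⟩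
    · exact ⟨0, fun h => absurd h hn⟩
  choose Nf hNf using hst
  let S : Finset ℕ := hfin.toFinset
  have hS : ∀ q, q ∈ S ↔ q.Prime ∧ ¬ Epi (mu A q) := fun q => hfin.mem_toFinset
  let M : ℕ := ∏ p ∈ S, p ^ Nf p
  have hMpos : 0 < M := Finset.prod_pos fun p hp => Nat.pow_pos ((hS p).1 hp).1.pos
  have claim_prime : ∀ q : ℕ, q.Prime → D A (M * q) = D A M := by
    intro q hq
    by_cases hgood : Epi (mu A q)
    · rw [mul_comm, ← im_D, D_eq_top_of_epi, D_eq]
    · have hqS : q ∈ S := (hS q).2 ⟨hq, hgood⟩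
      have hM' : q ^ Nf q * ∏ p ∈ S.erase q, p ^ Nf p = M :=
        Finset.mul_prod_erase S (fun p => p ^ Nf p) hqS
      have e1 : M * q = q ^ (Nf q + 1) * ∏ p ∈ S.erase q, p ^ Nf p := by
        rw [← hM', pow_succ]
        ring
      rw [e1, ← im_D, hNf q hq.pos (Nf q + 1) (Nat.le_succ _), im_D, hM']
  have claim_all : ∀ k : ℕ, 0 < k → D A (M * k) = D A M := by
    intro k
    induction k using Nat.recOnMul with
    | zero => intro h; exact absurd h (lt_irrefl 0)
    | one => intro _; rw [mul_one]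
    | prime p hp => intro _; exact claim_prime p hp
    | mul a b iha ihb =>
      intro hab
      have ha : 0 < a := Nat.pos_of_ne_zero (fun h => by rw [h, zero_mul] at hab; exact lt_irrefl 0 hab)
      have hb : 0 < b := Nat.pos_of_ne_zero (fun h => by rw [h, mul_zero] at hab; exact lt_irrefl 0 hab)
      rw [← mul_assoc, ← im_D, iha ha, im_D, ihb hb]
  refine ⟨M, hMpos, fun k hk => ?_⟩
  rw [im_D]
  exact claim_all k hk

/-- **S19621**. -/
theorem divisiblyML_iff (hA : Cof A) (hart : ∀ X : C, IsArtinianObject X)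
    (htor : ∀ X : C, ∃ n : ℕ, 0 < n ∧ n • 𝟙 X = 0) :
    ((∀ n : ℕ, 0 < n → ∃ m : ℕ, 0 < m ∧ n ∣ m ∧ ∀ m' : ℕ, 0 < m' → m ∣ m' →
        D A (m' / n) = D A (m / n)) ↔
      ∃ B' : Subobject A, (∀ k : ℕ, 0 < k → Epi (mu ((B' : Subobject A) : Ind C) k)) ∧
        E (cokernel B'.arrow)) ∧
    ((∃ B' : Subobject A, (∀ k : ℕ, 0 < k → Epi (mu ((B' : Subobject A) : Ind C) k)) ∧
        E (cokernel B'.arrow)) ↔
      {p : ℕ | p.Prime ∧ ¬ Epi (mu A p)}.Finite) := by
  refine ⟨⟨?_, ?_⟩, ⟨?_, ?_⟩⟩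
  · intro h
    obtain ⟨B', hdiv, M, hM, hMB⟩ := (mittagLeffler_iff A).1.1 h
    exact ⟨B', hdiv, hA.E_cokernel_of_isDiv hart htor B' ((isDiv_iff_epi B').2 hdiv) M hM hMB⟩
  · rintro ⟨B', hdiv, hE⟩
    obtain ⟨M, hM, hMB⟩ := exists_mu_eq_zero' htor hE
    exact (mittagLeffler_iff A).1.2 ⟨B', hdiv, M, hM, hMB⟩
  · rintro ⟨B', hdiv, hE⟩
    obtain ⟨M, hM, hMB⟩ := exists_mu_eq_zero' htor hE
    apply Set.Finite.subset (Nat.divisors M).finite_toSet
    rintro p ⟨hp, hnot⟩
    rw [Finset.mem_coe, Nat.mem_divisors]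
    refine ⟨?_, hM.ne'⟩
    by_contra hnd
    have hc : Nat.Coprime M p := ((Nat.Prime.coprime_iff_not_dvd hp).2 hnd).symm
    exact hnot (epi_mu_of_coprime_of_div B' M p ((isDiv_iff_epi B').2 hdiv p hp.pos) hMB hc)
  · intro hfin
    obtain ⟨M, hM, hdiv⟩ := hA.exists_isDiv_D hart htor hfin
    exact ⟨D A M, (isDiv_iff_epi _).1 hdiv,
      hA.E_cokernel_of_isDiv hart htor _ hdiv M hM (mu_cokernel_D_eq_zero A M)⟩

end Ind

end Groth.Agent.Lib.Helper23.IndCof
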