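import Groth.Agent.Lib.Helper23.IndCof.PTrans

/-!
# Helper23 — IndCof.DivPart: divisible subobjects, the divisible part of a cofinite type ind-object,
and the descending chain condition
-/

set_option autoImplicit false
set_option linter.style.haveILetI false
set_option linter.unusedSectionVars false
universe w v u

namespace Groth.Agent.Lib.Helper23.IndCof

open CategoryTheory
open CategoryTheory.Limits hiding im
open Groth.Agent.Lib.Helper23.AR.SubCalc Groth.Agent.Lib.Helper8.SubLat1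

section Abstract

variable {𝒜 : Type u} [Category.{v} 𝒜] [Abelian 𝒜]

lemma im_id {A : 𝒜} (S : Subobject A) : im (𝟙 A) S = S := by
  apply le_antisymm
  · rw [im_le_iff]
    exact (Subobject.pullback_id S).ge
  · have h := (im_le_iff (𝟙 A) S (im (𝟙 A) S)).1 le_rfl
    exact h.trans (Subobject.pullback_id _).le

lemma imageSubobject_arrow_eq {A : 𝒜} (S : Subobject A) : imageSubobject S.arrow = S := by
  rw [imageSubobject_mono, Subobject.mk_arrow]

/-- a subobject `S` is `m`-divisible iff `mS = S`. -/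
lemma epi_mu_iff {A : 𝒜} (S : Subobject A) (m : ℕ) :
    Epi (mu (S : 𝒜) m) ↔ im (mu A m) S = S := by
  have h0 : im (mu A m) S = imageSubobject (mu (S : 𝒜) m ≫ S.arrow) := by
    unfold im
    rw [mu_arrow]
  constructor
  · intro h
    rw [h0, imageSubobject_epi_comp, imageSubobject_arrow_eq]
  · intro h
    apply epi_of_imageSubobject_eq (mu (S : 𝒜) m) S.arrow
    rw [← h0, h, imageSubobject_arrow_eq]

lemma im_mu_pow_eq {A : 𝒜} (S : Subobject A) (p : ℕ) (h : im (mu A p) S = S) (k : ℕ) :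
    im (mu A (p ^ k)) S = S := by
  induction k with
  | zero => rw [pow_zero, mu_one, im_id]
  | succ k ih => rw [pow_succ, ← mu_comp, im_comp, ih, h]

/-- a divisible subobject is contained in every `p^k A`. -/
lemma le_D_of_div {A : 𝒜} (S : Subobject A) (p : ℕ) (h : im (mu A p) S = S) (k : ℕ) :
    S ≤ D A (p ^ k) := by
  rw [← im_mu_pow_eq S p h k, D_eq]
  exact im_mono _ le_top

lemma le_im_of_div {A : 𝒜} (S T : Subobject A) (p : ℕ) (h : im (mu A p) S = S) (hST : S ≤ T)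
    (k : ℕ) : S ≤ im (mu A (p ^ k)) T := by
  rw [← im_mu_pow_eq S p h k]
  exact im_mono _ hST

variable [IsGrothendieckAbelian.{w} 𝒜]

/-- divisible subobjects `D' ≤ D` with the same `p`-torsion are equal when `A` is `p`-power
torsion. -/
lemma div_le_of_torsion_le {A : 𝒜} (p : ℕ) (h1 : (⨆ k : ℕ, K A (p ^ k)) = ⊤)
    (D' D₁ : Subobject A) (hle : D' ≤ D₁) (hD' : im (mu A p) D' = D')
    (hD : im (mu A p) D₁ = D₁) (hp : D₁ ⊓ K A p ≤ D') : D₁ ≤ D' := by
  have claim : ∀ k, D₁ ⊓ K A (p ^ k) ≤ D' := by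
    intro k
    induction k with
    | zero =>
      rw [pow_zero, K_one_eq_bot, inf_bot_eq]
      exact bot_le
    | succ k ih =>
      have e1 : im (mu A p) (D₁ ⊓ K A (p ^ (k + 1))) ≤ im (mu A p) D' := by
        rw [hD']
        refine le_trans (le_inf ?_ ?_) ih
        · exact (im_mono _ inf_le_left).trans hD.le
        · calc im (mu A p) (D₁ ⊓ K A (p ^ (k + 1)))
              ≤ im (mu A p) (K A (p ^ (k + 1))) := im_mono _ inf_le_right
            _ = im (mu A p) (K A (p * p ^ k)) := by rw [pow_succ, mul_comm]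
            _ = D A p ⊓ K A (p ^ k) := im_K A p (p ^ k)
            _ ≤ K A (p ^ k) := inf_le_right
      have e2 : D₁ ⊓ K A (p ^ (k + 1)) ≤ D' ⊔ K A p := by
        rw [← pb_im_mu, ← im_le_iff]
        exact e1
      calc D₁ ⊓ K A (p ^ (k + 1)) ≤ (D' ⊔ K A p) ⊓ D₁ := le_inf e2 inf_le_left
        _ = D' ⊔ K A p ⊓ D₁ := sup_inf_assoc_of_le _ hle
        _ ≤ D' := sup_le le_rfl (by rw [inf_comm]; exact hp)
  calc D₁ = D₁ ⊓ ⊤ := (inf_top_eq _).symm
    _ = D₁ ⊓ ⨆ k : ℕ, K A (p ^ k) := by rw [h1]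
    _ = ⨆ k : ℕ, D₁ ⊓ K A (p ^ k) := inf_iSup_nat _ (K_pow_mono A p) _
    _ ≤ D' := iSup_le claim

end Abstract

section Ind

variable {C : Type v} [SmallCategory C] [Abelian C]

/-- **S14496**. -/
theorem divisiblePart_properties (p : ℕ)
    (htor : ∀ X : C, ∃ n : ℕ, (p ^ n) • 𝟙 X = 0)
    (A : Ind C) (hA : ∀ n : ℕ, E (kernel ((p ^ n) • 𝟙 A))) (N : ℕ)
    (hN : ∀ n : ℕ, N ≤ n → D A (p ^ n) = D A (p ^ N)) :
    (∀ n : ℕ, E (kernel ((p ^ n) • 𝟙 ((D A (p ^ N) : Subobject A) : Ind C)))) ∧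
      Epi (p • 𝟙 ((D A (p ^ N) : Subobject A) : Ind C)) ∧
      (∀ D' : Subobject A, Epi (p • 𝟙 (D' : Ind C)) → D' ≤ D A (p ^ N)) ∧
      (∀ (Q : Ind C) (q : A ⟶ Q), E Q → (D A (p ^ N)).arrow ≫ q = 0) := by
  refine ⟨?_, ?_, ?_, ?_⟩
  · intro n
    refine E_of_iso ((KArrowIso (D A (p ^ N)) (p ^ n)).symm ≪≫ kernelSubobjectIso _) ?_
    exact E_D_inf_K' p A hA N n
  · show Epi (mu _ p)
    rw [epi_mu_iff, im_D, ← pow_succ]
    exact hN _ (Nat.le_succ N)
  · intro D' hD'
    have h : im (mu A p) D' = D' := (epi_mu_iff D' p).1 hD'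
    exact le_D_of_div D' p h N
  · intro Q q hQ
    obtain ⟨k, hk⟩ := exists_mu_eq_zero p htor hQ
    have h1 : D A (p ^ N) ≤ D A (p ^ k) := by
      rw [← hN (N + k) (by omega)]
      exact D_pow_anti A p (by omega)
    have h2 : (D A (p ^ k)).arrow ≫ q = 0 := by
      unfold D
      rw [← cancel_epi (factorThruImageSubobject (mu A (p ^ k))), comp_zero,
        imageSubobject_arrow_comp_assoc, mu_naturality, hk, comp_zero]
    rw [← Subobject.ofLE_arrow h1, Category.assoc, h2, comp_zero]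

end Ind

end Groth.Agent.Lib.Helper23.IndCof
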