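import Groth.Agent.Lib.Helper23.IndCof.MittagLeffler

/-!
# Helper23 — IndCof.Divisible: the largest divisible subobject of a cofinite type ind-object
(general torsion)
-/

set_option autoImplicit false
set_option linter.style.haveILetI false
set_option linter.unusedSectionVars false
universe w v u

namespace Groth.Agent.Lib.Helper23.IndCof

open CategoryTheory
open CategoryTheory.Limits hiding im
open Groth.Agent.Lib.Helper23.AR.SubCalc Groth.Agent.Lib.Helper8.SubLat1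

section Abstract

variable {𝒜 : Type u} [Category.{v} 𝒜] [Abelian 𝒜]

/-- a divisible subobject: `kS = S` for all `k > 0`. -/
def IsDiv {A : 𝒜} (S : Subobject A) : Prop := ∀ k : ℕ, 0 < k → im (mu A k) S = S

lemma isDiv_iff_epi {A : 𝒜} (S : Subobject A) :
    IsDiv S ↔ ∀ k : ℕ, 0 < k → Epi (mu (S : 𝒜) k) :=
  ⟨fun h k hk => (epi_mu_iff S k).2 (h k hk), fun h k hk => (epi_mu_iff S k).1 (h k hk)⟩

lemma im_mu_D_le (A : 𝒜) (c m : ℕ) : im (mu A c) (D A m) ≤ D A m := by
  rw [im_D]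
  exact D_le_of_dvd A (dvd_mul_right m c)

lemma im_mu_inf_le (A : 𝒜) (c m l : ℕ) :
    im (mu A c) (D A m ⊓ K A l) ≤ D A m ⊓ K A l :=
  le_inf ((im_mono _ inf_le_left).trans (im_mu_D_le A c m))
    ((im_mono _ inf_le_right).trans (im_K_le (mu A c) l))

/-- multiplication by an integer prime to `m` is surjective on a subobject of `A[m]`. -/
lemma le_im_mu_of_coprime {A : 𝒜} (S : Subobject A) (m k : ℕ) (hS : S ≤ K A m)
    (h : Nat.Coprime k m) : S ≤ im (mu A k) S := by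
  apply Subobject.le_of_factors
  obtain ⟨a, b, hab⟩ := bezout_comp S.arrow h
  rw [(le_K_iff A m S).1 hS, smul_zero, add_zero] at hab
  have h2 : S.arrow = (a • 𝟙 (S : 𝒜)) ≫ (S.arrow ≫ mu A k) := by
    rw [Preadditive.zsmul_comp, Category.id_comp]
    exact hab
  rw [h2]
  exact imageSubobject_factors_comp_self (f := S.arrow ≫ mu A k) _

variable [IsGrothendieckAbelian.{w} 𝒜]

lemma im_iSup {A B : 𝒜} (f : A ⟶ B) {ι : Sort*} (S : ι → Subobject A) :
    im f (⨆ i, S i) = ⨆ i, im f (S i) := (gc_im_pb f).l_iSup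

/-- the largest divisible subobject. -/
noncomputable def divPart (A : 𝒜) : Subobject A := sSup {S : Subobject A | IsDiv S}

lemma isDiv_divPart (A : 𝒜) : IsDiv (divPart A) := by
  intro k hk
  unfold divPart
  rw [(gc_im_pb (mu A k)).l_sSup]
  apply le_antisymm
  · refine iSup₂_le fun S hS => ?_
    rw [hS k hk]
    exact le_sSup hS
  · refine sSup_le fun S hS => ?_
    calc S = im (mu A k) S := (hS k hk).symm
      _ ≤ ⨆ a ∈ {S : Subobject A | IsDiv S}, im (mu A k) a := le_iSup₂ (f := fun a _ => im (mu A k) a) S hS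

lemma le_divPart {A : 𝒜} (S : Subobject A) (h : IsDiv S) : S ≤ divPart A := le_sSup h

/-- the `n`-primary part of `n^N A` is divisible once `n^k A` is stationary for `k ≥ N`. -/
lemma isDiv_primary (A : 𝒜) (n N : ℕ)
    (hN : ∀ k : ℕ, N ≤ k → D A (n ^ k) = D A (n ^ N)) :
    IsDiv (⨆ j : ℕ, D A (n ^ N) ⊓ K A (n ^ j)) := by
  intro k hk
  apply le_antisymm
  · rw [im_iSup]
    exact iSup_le fun j => (im_mu_inf_le A k _ _).trans
      (le_iSup (fun j => D A (n ^ N) ⊓ K A (n ^ j)) j)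
  · refine iSup_le fun j => ?_
    obtain ⟨k₁, k₂, i, hk12, ⟨c, hc⟩, hk2⟩ := exists_decomp n k hk
    have hDi : im (mu A (n ^ i)) (D A (n ^ N)) = D A (n ^ N) := by
      rw [im_D, ← pow_add]
      exact hN _ (by omega)
    have e1 : D A (n ^ N) ⊓ K A (n ^ j) =
        im (mu A (n ^ i)) (D A (n ^ N) ⊓ K A (n ^ i * n ^ j)) := by
      rw [← pb_K, im_inf_pb, hDi]
    have e2 : im (mu A (n ^ i)) (D A (n ^ N) ⊓ K A (n ^ i * n ^ j)) ≤
        im (mu A k₁) (D A (n ^ N) ⊓ K A (n ^ i * n ^ j)) := by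
      rw [hc, mul_comm k₁ c, ← mu_comp, im_comp]
      exact im_mono _ (im_mu_inf_le A c _ _)
    have e3 : D A (n ^ N) ⊓ K A (n ^ i * n ^ j) ≤
        im (mu A k₂) (D A (n ^ N) ⊓ K A (n ^ i * n ^ j)) := by
      apply le_im_mu_of_coprime _ (n ^ i * n ^ j) k₂ inf_le_right
      rw [← pow_add]
      exact Nat.Coprime.pow_right _ hk2
    calc D A (n ^ N) ⊓ K A (n ^ j)
        = im (mu A (n ^ i)) (D A (n ^ N) ⊓ K A (n ^ i * n ^ j)) := e1
      _ ≤ im (mu A k₁) (D A (n ^ N) ⊓ K A (n ^ i * n ^ j)) := e2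
      _ ≤ im (mu A k₁) (im (mu A k₂) (D A (n ^ N) ⊓ K A (n ^ i * n ^ j))) := im_mono _ e3
      _ = im (mu A k) (D A (n ^ N) ⊓ K A (n ^ i * n ^ j)) := by
          rw [← im_comp, mu_comp, mul_comm k₂ k₁, ← hk12]
      _ ≤ im (mu A k) (⨆ j : ℕ, D A (n ^ N) ⊓ K A (n ^ j)) := by
          apply im_mono
          rw [← pow_add]
          exact le_iSup (fun j => D A (n ^ N) ⊓ K A (n ^ j)) (i + j)

/-- the `n`-torsion of the divisible part. -/
lemma divPart_inf_K (A : 𝒜) (n N : ℕ)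
    (hN : ∀ k : ℕ, N ≤ k → D A (n ^ k) = D A (n ^ N)) (hn : 0 < n) :
    divPart A ⊓ K A n = D A (n ^ N) ⊓ K A n := by
  apply le_antisymm
  · apply inf_le_inf_right
    rw [← isDiv_divPart A (n ^ N) (Nat.pow_pos hn), D_eq]
    exact im_mono _ le_top
  · apply le_inf _ inf_le_right
    refine le_trans ?_ (le_divPart _ (isDiv_primary A n N hN))
    have := le_iSup (fun j => D A (n ^ N) ⊓ K A (n ^ j)) 1
    simpa only [pow_one] using this

end Abstract

section Ind

variable {C : Type v} [SmallCategory C] [Abelian C] {A : Ind C}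

theorem Cof.divPart (hA : Cof A) (hart : ∀ X : C, IsArtinianObject X)
    (htor : ∀ X : C, ∃ n : ℕ, 0 < n ∧ n • 𝟙 X = 0) :
    Cof ((divPart A : Subobject A) : Ind C) := by
  apply Cof.of_E_inf_K
  intro n hn
  obtain ⟨N, hN⟩ := hA.exists_D_stab hart htor n hn
  rw [divPart_inf_K A n N hN hn]
  exact hA.E_D_inf_K (n ^ N) n (Nat.pow_pos hn) hn

theorem Cof.cokernel_divPart (hA : Cof A) (hart : ∀ X : C, IsArtinianObject X)
    (htor : ∀ X : C, ∃ n : ℕ, 0 < n ∧ n • 𝟙 X = 0) :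
    Cof (cokernel (IndCof.divPart A).arrow) :=
  hA.cokernel_arrow hart htor _ (hA.divPart hart htor)

/-- a cofinite type ind-object killed by a positive integer is in the essential image. -/
lemma Cof.E_of_mu_eq_zero {Q : Ind C} (hQ : Cof Q) (M : ℕ) (hM : 0 < M) (h : mu Q M = 0) : E Q := by
  have h1 : K Q M = ⊤ := by
    rw [eq_top_iff, le_K_iff, h, comp_zero]
  have h2 := hQ M hM
  rw [h1] at h2
  exact E_of_iso (asIso (⊤ : Subobject Q).arrow) h2

/-- **S19622**. -/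
theorem exists_largest_divisible (hA : Cof A) (hart : ∀ X : C, IsArtinianObject X)
    (htor : ∀ X : C, ∃ n : ℕ, 0 < n ∧ n • 𝟙 X = 0) :
    ∃ D₀ : Subobject A, (∀ k : ℕ, 0 < k → Epi (mu ((D₀ : Subobject A) : Ind C) k)) ∧
      (∀ D' : Subobject A, (∀ k : ℕ, 0 < k → Epi (mu ((D' : Subobject A) : Ind C) k)) → D' ≤ D₀) ∧
      Cof ((D₀ : Subobject A) : Ind C) ∧ Cof (cokernel D₀.arrow) :=
  ⟨IndCof.divPart A, (isDiv_iff_epi _).1 (isDiv_divPart A),
    fun D' hD' => le_divPart D' ((isDiv_iff_epi D').2 hD'),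
    hA.divPart hart htor, hA.cokernel_divPart hart htor⟩

end Ind

end Groth.Agent.Lib.Helper23.IndCof
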