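import Groth.Agent.Lib.Helper23.AR.SubCalc
import Mathlib.CategoryTheory.Abelian.Basic
import Mathlib.CategoryTheory.Preadditive.Basic

/-!
# Helper23 — IndCof.EndoCalc: the subobjects `A[m]` and `mA` of an object of an abelian category
-/

set_option autoImplicit false
universe v u

namespace Groth.Agent.Lib.Helper23.IndCof

open CategoryTheory
open CategoryTheory.Limits hiding im
open Groth.Agent.Lib.Helper23.AR.SubCalc Groth.Agent.Lib.Helper8.SubLat1

variable {𝒜 : Type u} [Category.{v} 𝒜] [Abelian 𝒜]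

/-- multiplication by `m` on `A`. -/
noncomputable abbrev mu (A : 𝒜) (m : ℕ) : A ⟶ A := m • 𝟙 A

lemma mu_comp (A : 𝒜) (m n : ℕ) : mu A m ≫ mu A n = mu A (m * n) := by
  unfold mu
  rw [Preadditive.nsmul_comp, Preadditive.comp_nsmul, Category.id_comp, smul_smul]

@[reassoc]
lemma mu_naturality {A B : 𝒜} (g : A ⟶ B) (m : ℕ) : mu A m ≫ g = g ≫ mu B m := by
  unfold mu
  rw [Preadditive.nsmul_comp, Preadditive.comp_nsmul, Category.id_comp, Category.comp_id]

lemma mu_one (A : 𝒜) : mu A 1 = 𝟙 A := one_smul _ _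

lemma comp_mu {A B : 𝒜} (g : A ⟶ B) (m : ℕ) : g ≫ mu B m = m • g := by
  unfold mu
  rw [Preadditive.comp_nsmul, Category.comp_id]

/-- `A[m]`, the kernel of multiplication by `m`. -/
noncomputable def K (A : 𝒜) (m : ℕ) : Subobject A := kernelSubobject (mu A m)

/-- `mA`, the image of multiplication by `m`. -/
noncomputable def D (A : 𝒜) (m : ℕ) : Subobject A := imageSubobject (mu A m)

lemma K_eq (A : 𝒜) (m : ℕ) : K A m = pb (mu A m) ⊥ := (pb_bot _).symm

lemma im_top {A B : 𝒜} (f : A ⟶ B) : im f ⊤ = imageSubobject f := by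
  unfold im
  haveI : IsIso (⊤ : Subobject A).arrow := inferInstance
  exact imageSubobject_epi_comp _ f

lemma D_eq (A : 𝒜) (m : ℕ) : D A m = im (mu A m) ⊤ := (im_top _).symm

lemma pb_K (A : 𝒜) (m n : ℕ) : pb (mu A m) (K A n) = K A (m * n) := by
  rw [K_eq, K_eq, ← pb_comp, mu_comp]

lemma im_D (A : 𝒜) (m n : ℕ) : im (mu A m) (D A n) = D A (n * m) := by
  rw [D_eq, D_eq, ← im_comp, mu_comp]

lemma K_le_of_dvd (A : 𝒜) {m n : ℕ} (h : m ∣ n) : K A m ≤ K A n := by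
  obtain ⟨k, rfl⟩ := h
  rw [K_eq, K_eq, ← mu_comp, pb_comp]
  exact pb_mono _ bot_le

lemma D_le_of_dvd (A : 𝒜) {m n : ℕ} (h : m ∣ n) : D A n ≤ D A m := by
  obtain ⟨k, rfl⟩ := h
  rw [mul_comm, ← im_D, D_eq A m]
  exact im_mono _ le_top

lemma mu_zero (A : 𝒜) : mu A 0 = 0 := zero_smul _ _

lemma K_zero_eq_top (A : 𝒜) : K A 0 = ⊤ := by
  rw [K_eq, mu_zero, pb_bot]
  exact kernelSubobject_zero

lemma K_one_eq_bot (A : 𝒜) : K A 1 = ⊥ := by
  rw [K_eq, mu_one]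
  exact Subobject.pullback_id _

lemma D_one_eq_top (A : 𝒜) : D A 1 = ⊤ := by
  rw [D_eq, mu_one]
  have h : pb (𝟙 A) (im (𝟙 A) ⊤) = ⊤ := by
    rw [pb_im]
    exact top_sup_eq _
  exact (Subobject.pullback_id (im (𝟙 A) ⊤)).symm.trans h

/-- `m(A[mn]) = mA ∩ A[n]`. -/
lemma im_K (A : 𝒜) (m n : ℕ) : im (mu A m) (K A (m * n)) = D A m ⊓ K A n := by
  rw [← pb_K, D_eq]
  have := im_inf_pb (mu A m) ⊤ (K A n)
  rw [top_inf_eq] at this
  exact this

/-- `m⁻¹(mS) = S + A[m]`. -/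
lemma pb_im_mu (A : 𝒜) (m : ℕ) (S : Subobject A) : pb (mu A m) (im (mu A m) S) = S ⊔ K A m :=
  pb_im _ _

/-- images along any morphism are compatible with multiplication. -/
lemma im_mu_comm {A B : 𝒜} (g : A ⟶ B) (m : ℕ) (S : Subobject A) :
    im (mu B m) (im g S) = im g (im (mu A m) S) := by
  rw [← im_comp, ← im_comp, mu_naturality]

lemma im_K_le {A B : 𝒜} (g : A ⟶ B) (m : ℕ) : im g (K A m) ≤ K B m := by
  rw [im_le_iff, K_eq B, ← pb_comp, ← mu_naturality, pb_comp]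
  exact (K_eq A m).le.trans (pb_mono _ bot_le)

end Groth.Agent.Lib.Helper23.IndCof
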