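import Groth.Agent.Lib.Helper23.IndCof.GenStab

/-!
# Helper23 — IndCof.FinSub: subobjects in the essential image; kernels, images and quotients of
cofinite type ind-objects
-/

set_option autoImplicit false
set_option linter.style.haveILetI false
set_option linter.unusedSectionVars false
universe w v u

namespace Groth.Agent.Lib.Helper23.IndCof

open CategoryTheory
open CategoryTheory.Limits hiding im
open Groth.Agent.Lib.Helper23.AR.SubCalc Groth.Agent.Lib.Helper8.SubLat1

section Abstract

variable {𝒜 : Type u} [Category.{v} 𝒜] [Abelian 𝒜]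

/-- the image of a subobject along a monomorphism has the same underlying object. -/
noncomputable def underlyingIsoIm {X Y : 𝒜} (f : X ⟶ Y) [Mono f] (T : Subobject X) :
    ((im f T : Subobject Y) : 𝒜) ≅ (T : 𝒜) :=
  imageSubobjectIso (T.arrow ≫ f) ≪≫ imageMonoIsoSource (T.arrow ≫ f)

lemma kernelSubobject_eq_bot_of_mono {X Y : 𝒜} (f : X ⟶ Y) [Mono f] : kernelSubobject f = ⊥ := by
  apply eq_bot_of_arrow_eq_zero
  rw [← cancel_mono f, zero_comp, kernelSubobject_arrow_comp]

lemma im_arrow_top {A : 𝒜} (S : Subobject A) : im S.arrow ⊤ = S := by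
  rw [im_top, imageSubobject_mono, Subobject.mk_arrow]

lemma mu_arrow {A : 𝒜} (S : Subobject A) (m : ℕ) :
    mu (S : 𝒜) m ≫ S.arrow = S.arrow ≫ mu A m := mu_naturality _ _

lemma pb_arrow_K {A : 𝒜} (S : Subobject A) (m : ℕ) : pb S.arrow (K A m) = K (S : 𝒜) m := by
  rw [K_eq, K_eq, ← pb_comp, ← mu_arrow, pb_comp, pb_bot S.arrow,
    kernelSubobject_eq_bot_of_mono]

lemma im_arrow_pb {A : 𝒜} (S T : Subobject A) : im S.arrow (pb S.arrow T) = S ⊓ T := by
  have := im_inf_pb S.arrow ⊤ T
  rw [top_inf_eq, im_arrow_top] at this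
  exact this

lemma im_arrow_K {A : 𝒜} (S : Subobject A) (m : ℕ) :
    im S.arrow (K (S : 𝒜) m) = S ⊓ K A m := by
  rw [← pb_arrow_K, im_arrow_pb]

lemma im_arrow_D {A : 𝒜} (S : Subobject A) (m : ℕ) :
    im S.arrow (D (S : 𝒜) m) = im (mu A m) S := by
  rw [D_eq, ← im_comp, mu_arrow, im_comp, im_arrow_top]

lemma im_arrow_le {A : 𝒜} (S : Subobject A) (T : Subobject (S : 𝒜)) : im S.arrow T ≤ S := by
  calc im S.arrow T ≤ im S.arrow ⊤ := im_mono _ le_top
    _ = S := im_arrow_top S

/-- `S ∩ T` as a subobject of `S`. -/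
noncomputable def pbArrowIso {A : 𝒜} (S T : Subobject A) :
    ((pb S.arrow T : Subobject (S : 𝒜)) : 𝒜) ≅ ((S ⊓ T : Subobject A) : 𝒜) :=
  (underlyingIsoIm S.arrow (pb S.arrow T)).symm ≪≫ Subobject.isoOfEq _ _ (im_arrow_pb S T)

/-- the torsion of a subobject. -/
noncomputable def KArrowIso {A : 𝒜} (S : Subobject A) (m : ℕ) :
    ((K (S : 𝒜) m : Subobject (S : 𝒜)) : 𝒜) ≅ ((S ⊓ K A m : Subobject A) : 𝒜) :=
  (underlyingIsoIm S.arrow (K (S : 𝒜) m)).symm ≪≫ Subobject.isoOfEq _ _ (im_arrow_K S m)

lemma kernelSubobject_cokernel_π {A : 𝒜} (S : Subobject A) :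
    kernelSubobject (cokernel.π S.arrow) = S := by
  apply le_antisymm
  · apply Subobject.le_of_factors
    have h0 : (kernelSubobject (cokernel.π S.arrow)).arrow ≫ cokernel.π S.arrow = 0 :=
      kernelSubobject_arrow_comp _
    rw [← Abelian.monoLift_comp S.arrow _ h0]
    exact Subobject.factors_comp_arrow _
  · apply Subobject.le_of_factors
    rw [kernelSubobject_factors_iff]
    exact cokernel.condition _

lemma pb_cokernel_π_bot {A : 𝒜} (S : Subobject A) : pb (cokernel.π S.arrow) ⊥ = S := by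
  rw [pb_bot, kernelSubobject_cokernel_π]

lemma pb_im_sup {X Y : 𝒜} (f : X ⟶ Y) (S : Subobject X) (T : Subobject Y) :
    pb f (im f S ⊔ T) = S ⊔ pb f T := by
  apply le_antisymm
  · have h1 : im f (pb f (im f S ⊔ T)) = im f (S ⊔ pb f T) := by
      have e1 := im_inf_pb f ⊤ (im f S ⊔ T)
      rw [top_inf_eq] at e1
      have e2 := im_inf_pb f ⊤ T
      rw [top_inf_eq] at e2
      rw [e1, im_sup, e2, inf_comm, sup_inf_assoc_of_le _ (im_mono f le_top), inf_comm]
    calc pb f (im f S ⊔ T) ≤ pb f (im f (pb f (im f S ⊔ T))) := (im_le_iff f _ _).1 le_rfl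
      _ = pb f (im f (S ⊔ pb f T)) := by rw [h1]
      _ = S ⊔ pb f T ⊔ kernelSubobject f := pb_im _ _
      _ ≤ S ⊔ pb f T := sup_le le_rfl ((kernelSubobject_le_pb f T).trans le_sup_right)
  · exact sup_le ((im_le_iff f S _).1 le_sup_left) (pb_mono f le_sup_right)

lemma pb_K_quot {A : 𝒜} (S : Subobject A) (m : ℕ) :
    pb (cokernel.π S.arrow) (K (cokernel S.arrow) m) = pb (mu A m) S := by
  rw [K_eq, ← pb_comp, ← mu_naturality, pb_comp, pb_cokernel_π_bot]

lemma im_cokernel_π_self {A : 𝒜} (S : Subobject A) : im (cokernel.π S.arrow) S = ⊥ := by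
  rw [im_eq_bot_iff]
  exact cokernel.condition _

/-- the isomorphism between the image and the quotient by the kernel, for subobjects. -/
noncomputable def imageSubobjectIsoCokernel {X Y : 𝒜} (f : X ⟶ Y) :
    ((imageSubobject f : Subobject Y) : 𝒜) ≅ cokernel (kernelSubobject f).arrow :=
  imageSubobjectIso f ≪≫ (Abelian.coimageIsoImage' f).symm ≪≫
    (cokernelEpiComp (kernelSubobjectIso f).hom (kernel.ι f)).symm ≪≫
    cokernelIsoOfEq (kernelSubobject_arrow f)

/-- transporting the torsion along an isomorphism. -/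
noncomputable def KIsoOfIso {A B : 𝒜} (e : A ≅ B) (m : ℕ) :
    ((K A m : Subobject A) : 𝒜) ≅ ((K B m : Subobject B) : 𝒜) :=
  kernelSubobjectIso _ ≪≫ kernel.mapIso (mu A m) (mu B m) e e (mu_naturality e.hom m) ≪≫
    (kernelSubobjectIso _).symm

end Abstract

section Ind

variable {C : Type v} [SmallCategory C] [Abelian C]

lemma Cof.of_iso {A B : Ind C} (e : A ≅ B) (hA : Cof A) : Cof B :=
  fun m hm => E_of_iso (KIsoOfIso e m) (hA m hm)

/-- (d): inverse images, cut down to a subobject in the essential image, are in the essential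
image. -/
lemma E_inf_pb {A B : Ind C} (f : A ⟶ B) (U : Subobject A) (V W : Subobject B)
    (hU : E ((U : Subobject A) : Ind C)) (hV : E ((V : Subobject B) : Ind C))
    (hW : E ((W : Subobject B) : Ind C)) (hWV : W ≤ V) (hUV : im f U ≤ V) :
    E ((U ⊓ pb f W : Subobject A) : Ind C) := by
  have hfac : V.Factors (U.arrow ≫ f) := by
    rw [← pb_factors_iff]
    exact Subobject.factors_of_le _ ((im_le_iff f U V).1 hUV) (Subobject.factors_self U)
  let g : ((U : Subobject A) : Ind C) ⟶ ((V : Subobject B) : Ind C) :=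
    V.factorThru (U.arrow ≫ f) hfac
  have hg : g ≫ V.arrow = U.arrow ≫ f := Subobject.factorThru_arrow _ _ hfac
  let q := cokernel.π (Subobject.ofLE W V hWV)
  have hq : E (cokernel (Subobject.ofLE W V hWV)) := E_cokernel _ hW hV
  have hk : E (kernel (g ≫ q)) := E_kernel _ hU hq
  let κ := kernel.ι (g ≫ q)
  have hκ : κ ≫ g ≫ q = 0 := kernel.condition _
  have heq : Subobject.mk (κ ≫ U.arrow) = U ⊓ pb f W := by
    apply le_antisymm
    · apply le_inf
      · exact Subobject.mk_le_of_comm κ rfl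
      · apply Subobject.le_of_factors
        rw [pb_factors_iff]
        have h0 : (κ ≫ g) ≫ q = 0 := by rw [Category.assoc]; exact hκ
        have h1 := Abelian.monoLift_comp (Subobject.ofLE W V hWV) (κ ≫ g) h0
        have h2 : Abelian.monoLift (Subobject.ofLE W V hWV) (κ ≫ g) h0 ≫ W.arrow =
            κ ≫ U.arrow ≫ f := by
          rw [← Subobject.ofLE_arrow hWV, ← Category.assoc, h1, Category.assoc, hg]
        have h3 : (Subobject.mk (κ ≫ U.arrow)).arrow ≫ f =
            ((Subobject.underlyingIso (κ ≫ U.arrow)).hom ≫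
              Abelian.monoLift (Subobject.ofLE W V hWV) (κ ≫ g) h0) ≫ W.arrow := by
          rw [Category.assoc, h2, ← Category.assoc, ← Category.assoc, Category.assoc _ κ,
            Subobject.underlyingIso_hom_comp_eq_mk]
        rw [h3]
        exact Subobject.factors_comp_arrow _
    · have hfacW : W.Factors ((U ⊓ pb f W).arrow ≫ f) := by
        rw [← pb_factors_iff]
        exact Subobject.factors_of_le _ inf_le_right (Subobject.factors_self _)
      let a := Subobject.ofLE (U ⊓ pb f W) U inf_le_left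
      have ha : a ≫ U.arrow = (U ⊓ pb f W).arrow := Subobject.ofLE_arrow _
      have h3 : a ≫ g = W.factorThru _ hfacW ≫ Subobject.ofLE W V hWV := by
        rw [← cancel_mono V.arrow, Category.assoc, hg, ← Category.assoc, ha, Category.assoc,
          Subobject.ofLE_arrow, Subobject.factorThru_arrow]
      have h4 : a ≫ g ≫ q = 0 := by
        rw [← Category.assoc, h3, Category.assoc, cokernel.condition, comp_zero]
      refine Subobject.le_mk_of_comm (kernel.lift (g ≫ q) a h4) ?_
      rw [← Category.assoc, kernel.lift_ι, ha]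
  exact E_of_iso ((Subobject.underlyingIso (κ ≫ U.arrow)).symm ≪≫ Subobject.isoOfEq _ _ heq) hk

/-- (b): intersections. -/
lemma E_inf {A : Ind C} (S T U : Subobject A) (hS : E ((S : Subobject A) : Ind C))
    (hT : E ((T : Subobject A) : Ind C)) (hU : E ((U : Subobject A) : Ind C))
    (hSU : S ≤ U) (hTU : T ≤ U) : E ((S ⊓ T : Subobject A) : Ind C) := by
  have h := E_inf_pb (𝟙 A) S U T hS hU hT hTU ?_
  · rwa [show pb (𝟙 A) T = T from Subobject.pullback_id T] at h
  · rw [im_le_iff]
    exact hSU.trans (by rw [show pb (𝟙 A) U = U from Subobject.pullback_id U])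

lemma E_bot (A : Ind C) : E (((⊥ : Subobject A) : Subobject A) : Ind C) :=
  E_zero _ (IsZero.of_iso (isZero_zero _) Subobject.botCoeIsoZero)

/-- if the kernel and the source are in the essential image then so is the image. -/
lemma E_imageSubobject_of_kernel {X Y : Ind C} (h : X ⟶ Y) (hX : E X)
    (hK : E ((kernelSubobject h : Subobject X) : Ind C)) :
    E ((imageSubobject h : Subobject Y) : Ind C) :=
  E_of_iso (imageSubobjectIsoCokernel h).symm (E_cokernel _ hK hX)

variable {A : Ind C}

lemma Cof.E_inf_K (S : Subobject A) (hS : Cof ((S : Subobject A) : Ind C)) (m : ℕ)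
    (hm : 0 < m) : E ((S ⊓ K A m : Subobject A) : Ind C) :=
  E_of_iso (KArrowIso S m) (hS m hm)

lemma Cof.of_E_inf_K (S : Subobject A) (h : ∀ m : ℕ, 0 < m → E ((S ⊓ K A m : Subobject A) : Ind C)) :
    Cof ((S : Subobject A) : Ind C) :=
  fun m hm => E_of_iso (KArrowIso S m).symm (h m hm)

/-- the kernel of a morphism of cofinite type ind-objects is of cofinite type. -/
theorem Cof.kerSub {B : Ind C} (hA : Cof A) (hB : Cof B) (f : A ⟶ B) :
    Cof ((kernelSubobject f : Subobject A) : Ind C) := by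
  apply Cof.of_E_inf_K
  intro m hm
  have h := E_inf_pb f (K A m) (K B m) ⊥ (hA m hm) (hB m hm) (E_bot B) bot_le (im_K_le f m)
  rw [pb_bot, inf_comm] at h
  exact h

end Ind

end Groth.Agent.Lib.Helper23.IndCof
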