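import Groth.Agent.Lib.Helper23.IndCof.Coker
import Groth.Agent.Lib.Helper23.IndCof.Bezout
import Mathlib.Data.Nat.Factorial.Basic

/-!
# Helper23 — IndCof.GenStab: stabilization of `n^k A` for arbitrary torsion
-/

set_option autoImplicit false
set_option linter.style.haveILetI false
set_option linter.unusedSectionVars false
universe w v u

namespace Groth.Agent.Lib.Helper23.IndCof

open CategoryTheory
open CategoryTheory.Limits hiding im
open Groth.Agent.Lib.Helper23.AR.SubCalc Groth.Agent.Lib.Helper8.SubLat1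
open Nat

section Abstract

variable {𝒜 : Type u} [Category.{v} 𝒜] [Abelian 𝒜] [IsGrothendieckAbelian.{w} 𝒜]

lemma K_factorial_mono (A : 𝒜) : Monotone (fun j : ℕ => K A (j !)) :=
  monotone_nat_of_le_succ (fun j => K_le_of_dvd A (Nat.factorial_dvd_factorial (Nat.le_succ j)))

/-- general form of `D_stab`: no primality, arbitrary torsion. -/
theorem D_stab' (A : 𝒜) (n : ℕ) (h1 : (⨆ j : ℕ, K A (j !)) = ⊤) (N : ℕ)
    (h2 : ∀ k, N ≤ k → D A (n ^ k) ⊓ K A n = D A (n ^ N) ⊓ K A n) :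
    ∀ k, N ≤ k → D A (n ^ k) = D A (n ^ N) := by
  have step : ∀ k, N ≤ k → D A (n ^ k) ≤ D A (n ^ (k + 1)) := by
    intro k hk
    have claim : ∀ j, D A (n ^ k) ⊓ K A (n ^ j) ≤ D A (n ^ (k + 1)) := by
      intro j
      induction j with
      | zero =>
        rw [pow_zero, K_one_eq_bot, inf_bot_eq]
        exact bot_le
      | succ j ih =>
        have e1 : im (mu A (n ^ j)) (D A (n ^ k) ⊓ K A (n ^ (j + 1))) ≤
            D A (n ^ (k + j)) ⊓ K A n := by
          apply le_inf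
          · calc im (mu A (n ^ j)) (D A (n ^ k) ⊓ K A (n ^ (j + 1)))
                ≤ im (mu A (n ^ j)) (D A (n ^ k)) := im_mono _ inf_le_left
              _ = D A (n ^ k * n ^ j) := im_D A (n ^ j) (n ^ k)
              _ = D A (n ^ (k + j)) := by rw [pow_add]
          · calc im (mu A (n ^ j)) (D A (n ^ k) ⊓ K A (n ^ (j + 1)))
                ≤ im (mu A (n ^ j)) (K A (n ^ (j + 1))) := im_mono _ inf_le_right
              _ = im (mu A (n ^ j)) (K A (n ^ j * n)) := by rw [pow_succ]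
              _ = D A (n ^ j) ⊓ K A n := im_K A (n ^ j) n
              _ ≤ K A n := inf_le_right
        have e2 : D A (n ^ (k + j)) ⊓ K A n = D A (n ^ (k + j + 1)) ⊓ K A n := by
          rw [h2 (k + j) (by omega), h2 (k + j + 1) (by omega)]
        have e3 : im (mu A (n ^ j)) (D A (n ^ k) ⊓ K A (n ^ (j + 1))) ≤
            im (mu A (n ^ j)) (D A (n ^ (k + 1))) := by
          rw [im_D, ← pow_add]
          calc im (mu A (n ^ j)) (D A (n ^ k) ⊓ K A (n ^ (j + 1)))
              ≤ D A (n ^ (k + j)) ⊓ K A n := e1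
            _ = D A (n ^ (k + j + 1)) ⊓ K A n := e2
            _ ≤ D A (n ^ (k + j + 1)) := inf_le_left
            _ = D A (n ^ (k + 1 + j)) := by
              have : k + j + 1 = k + 1 + j := by omega
              rw [this]
        have e4 : D A (n ^ k) ⊓ K A (n ^ (j + 1)) ≤ D A (n ^ (k + 1)) ⊔ K A (n ^ j) := by
          rw [← pb_im_mu, ← im_le_iff]
          exact e3
        calc D A (n ^ k) ⊓ K A (n ^ (j + 1))
            ≤ (D A (n ^ (k + 1)) ⊔ K A (n ^ j)) ⊓ D A (n ^ k) := le_inf e4 inf_le_left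
          _ = D A (n ^ (k + 1)) ⊔ K A (n ^ j) ⊓ D A (n ^ k) :=
              sup_inf_assoc_of_le _ (D_pow_anti A n (Nat.le_succ k))
          _ ≤ D A (n ^ (k + 1)) := sup_le le_rfl (by rw [inf_comm]; exact ih)
    have claim2 : ∀ m, 0 < m → D A (n ^ k) ⊓ K A m ≤ D A (n ^ (k + 1)) := by
      intro m hm
      obtain ⟨i, m₂, hc, hle⟩ := exists_K_le_sup A n m hm
      have hk1 : K A m₂ ≤ D A (n ^ k) := K_le_D_of_coprime A (Nat.Coprime.pow_right k hc)
      have hk2 : K A m₂ ≤ D A (n ^ (k + 1)) :=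
        K_le_D_of_coprime A (Nat.Coprime.pow_right (k + 1) hc)
      calc D A (n ^ k) ⊓ K A m ≤ (K A m₂ ⊔ K A (n ^ i)) ⊓ D A (n ^ k) := by
            rw [inf_comm, sup_comm]
            exact inf_le_inf_right _ hle
        _ = K A m₂ ⊔ K A (n ^ i) ⊓ D A (n ^ k) := sup_inf_assoc_of_le _ hk1
        _ ≤ D A (n ^ (k + 1)) := sup_le hk2 (by rw [inf_comm]; exact claim i)
    calc D A (n ^ k) = D A (n ^ k) ⊓ ⊤ := (inf_top_eq _).symm
      _ = D A (n ^ k) ⊓ ⨆ j : ℕ, K A (j !) := by rw [h1]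
      _ = ⨆ j : ℕ, D A (n ^ k) ⊓ K A (j !) := inf_iSup_nat _ (K_factorial_mono A) _
      _ ≤ D A (n ^ (k + 1)) := iSup_le (fun j => claim2 _ (Nat.factorial_pos j))
  intro k hk
  induction k, hk using Nat.le_induction with
  | base => rfl
  | succ k hk ih => exact (le_antisymm (D_pow_anti A n (Nat.le_succ k)) (step k hk)).trans ih

end Abstract

section Ind

variable {C : Type v} [SmallCategory C] [Abelian C]

/-- a subobject through which every morphism from an object of `C` factors is everything. -/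
lemma eq_top_of_forall_factors {A : Ind C} (S : Subobject A)
    (hfac : ∀ (X₀ : C) (g : Ind.yoneda.obj X₀ ⟶ A), S.Factors g) : S = ⊤ := by
  haveI : Epi S.arrow := by
    constructor
    intro Z u v huv
    apply Ind.isSeparating_range_yoneda
    rintro G ⟨X₀⟩ h
    rw [← Subobject.factorThru_arrow S h (hfac X₀ h), Category.assoc, Category.assoc, huv]
  haveI : IsIso S.arrow := isIso_of_mono_of_epi _
  exact Subobject.eq_top_of_isIso_arrow S

/-- objects of the essential image are killed by a positive integer when those of `C` are. -/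
lemma exists_mu_eq_zero' (htor : ∀ X : C, ∃ n : ℕ, 0 < n ∧ n • 𝟙 X = 0) {X : Ind C}
    (hX : E X) : ∃ n : ℕ, 0 < n ∧ mu X n = 0 := by
  obtain ⟨X₀, ⟨e⟩⟩ := hX
  obtain ⟨n, hn0, hn⟩ := htor X₀
  refine ⟨n, hn0, ?_⟩
  have h1 : mu (Ind.yoneda.obj X₀) n = 0 := by
    unfold mu
    rw [← Ind.yoneda.map_id, ← Functor.map_nsmul, hn, Functor.map_zero]
  rw [← cancel_epi e.hom, comp_zero, ← mu_naturality, h1, zero_comp]

theorem iSup_K_factorial_eq_top (htor : ∀ X : C, ∃ n : ℕ, 0 < n ∧ n • 𝟙 X = 0) (A : Ind C) :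
    (⨆ j : ℕ, K A (j !)) = ⊤ := by
  apply eq_top_of_forall_factors
  intro X₀ g
  obtain ⟨n, hn0, hn⟩ := exists_mu_eq_zero' htor (E_yoneda X₀)
  have h1 : (K A n).Factors g := by
    rw [K_factors_iff, ← mu_naturality, hn, zero_comp]
  exact Subobject.factors_of_le g
    ((K_le_of_dvd A (Nat.dvd_factorial hn0 le_rfl)).trans (le_iSup (fun j => K A (j !)) n)) h1

/-- cofinite type: all the torsion parts `A[m]`, `m > 0`, are in the essential image. -/
def Cof (A : Ind C) : Prop := ∀ m : ℕ, 0 < m → E ((K A m : Subobject A) : Ind C)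

lemma cof_iff (A : Ind C) : Cof A ↔ ∀ m : ℕ, 0 < m → E (kernel (m • 𝟙 A)) :=
  ⟨fun h m hm => E_of_iso (kernelSubobjectIso _) (h m hm),
    fun h m hm => E_of_iso (kernelSubobjectIso _).symm (h m hm)⟩

variable {A : Ind C}

/-- `mA ∩ A[n]` is in the essential image. -/
lemma Cof.E_D_inf_K (hA : Cof A) (m n : ℕ) (hm : 0 < m) (hn : 0 < n) :
    E ((D A m ⊓ K A n : Subobject A) : Ind C) := by
  rw [← im_K]
  refine E_im _ _ (K A n) (hA _ (Nat.mul_pos hm hn)) (hA n hn) ?_
  rw [im_K]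
  exact inf_le_right

theorem Cof.exists_D_stab (hA : Cof A) (hart : ∀ X : C, IsArtinianObject X)
    (htor : ∀ X : C, ∃ n : ℕ, 0 < n ∧ n • 𝟙 X = 0) (n : ℕ) (hn : 0 < n) :
    ∃ N : ℕ, ∀ k : ℕ, N ≤ k → D A (n ^ k) = D A (n ^ N) := by
  obtain ⟨N, hN⟩ := dcc_E hart (fun k => D A (n ^ k) ⊓ K A n)
    (fun i j hij => inf_le_inf_right _ (D_pow_anti A n hij))
    (fun k => hA.E_D_inf_K (n ^ k) n (Nat.pow_pos hn) hn)
  exact ⟨N, D_stab' A n (iSup_K_factorial_eq_top htor A) N hN⟩

/-- **S14499**: `A / nA` is in the essential image. -/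
theorem Cof.E_cokernel_mu (hA : Cof A) (hart : ∀ X : C, IsArtinianObject X)
    (htor : ∀ X : C, ∃ n : ℕ, 0 < n ∧ n • 𝟙 X = 0) (n : ℕ) (hn : 0 < n) :
    E (cokernel (n • 𝟙 A)) := by
  obtain ⟨N, hN⟩ := hA.exists_D_stab hart htor n hn
  have h1 := D_sup_K_eq_top_of_stab n A N hN 1
  rw [pow_one] at h1
  have h2 : E (cokernel (D A n).arrow) :=
    E_cokernel_arrow_of_sup_eq_top _ _ h1 (hA _ (Nat.pow_pos hn))
      (hA.E_D_inf_K n (n ^ N) hn (Nat.pow_pos hn))
  exact E_of_iso (cokernelImageSubobjectIso (mu A n)).symm h2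

end Ind

end Groth.Agent.Lib.Helper23.IndCof
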