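import Mathlib.CategoryTheory.Abelian.Indization
import Mathlib.CategoryTheory.Abelian.GrothendieckAxioms.Indization
import Mathlib.CategoryTheory.Subobject.ArtinianObject
import Mathlib.CategoryTheory.Limits.Preserves.Shapes.Kernels
import Groth.Agent.Lib.Helper23.IndCof.EndoCalc

/-!
# Helper23 — IndCof.IndBasic: the essential image of `C` in `Ind C`
-/

set_option autoImplicit false
set_option linter.style.haveILetI false
set_option linter.unusedSectionVars false
universe v

namespace Groth.Agent.Lib.Helper23.IndCof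

open CategoryTheory
open CategoryTheory.Limits hiding im
open Groth.Agent.Lib.Helper23.AR.SubCalc
open ZeroObject

variable {C : Type v} [SmallCategory C] [Abelian C]

instance additive_yoneda : (Ind.yoneda (C := C)).Additive :=
  Functor.additive_of_preserves_binary_products _

/-- the objects of `Ind C` isomorphic to objects of `C`. -/
abbrev E : ObjectProperty (Ind C) := (Ind.yoneda (C := C)).essImage

lemma E_of_iso {X Y : Ind C} (e : X ≅ Y) (h : E X) : E Y := Functor.essImage.ofIso e h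

lemma E_yoneda (X₀ : C) : E (Ind.yoneda.obj X₀) := ⟨X₀, ⟨Iso.refl _⟩⟩

/-- a morphism between objects of the essential image comes from `C`. -/
lemma exists_arrow_iso {X Y : Ind C} (f : X ⟶ Y) (hX : E X) (hY : E Y) :
    ∃ (X₀ Y₀ : C) (f₀ : X₀ ⟶ Y₀) (eX : Ind.yoneda.obj X₀ ≅ X) (eY : Ind.yoneda.obj Y₀ ≅ Y),
      Ind.yoneda.map f₀ ≫ eY.hom = eX.hom ≫ f := by
  obtain ⟨X₀, ⟨eX⟩⟩ := hX
  obtain ⟨Y₀, ⟨eY⟩⟩ := hY
  refine ⟨X₀, Y₀, Ind.yoneda.preimage (eX.hom ≫ f ≫ eY.inv), eX, eY, ?_⟩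
  rw [Functor.map_preimage, Category.assoc, Category.assoc, Iso.inv_hom_id, Category.comp_id]

lemma E_kernel {X Y : Ind C} (f : X ⟶ Y) (hX : E X) (hY : E Y) : E (kernel f) := by
  obtain ⟨X₀, Y₀, f₀, eX, eY, h⟩ := exists_arrow_iso f hX hY
  exact ⟨kernel f₀, ⟨PreservesKernel.iso Ind.yoneda f₀ ≪≫ kernel.mapIso _ _ eX eY h⟩⟩

lemma E_cokernel {X Y : Ind C} (f : X ⟶ Y) (hX : E X) (hY : E Y) : E (cokernel f) := by
  obtain ⟨X₀, Y₀, f₀, eX, eY, h⟩ := exists_arrow_iso f hX hY
  exact ⟨cokernel f₀, ⟨PreservesCokernel.iso Ind.yoneda f₀ ≪≫ cokernel.mapIso _ _ eX eY h⟩⟩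

lemma E_kernelSubobject {X Y : Ind C} (f : X ⟶ Y) (hX : E X) (hY : E Y) :
    E ((kernelSubobject f : Subobject X) : Ind C) :=
  E_of_iso (kernelSubobjectIso f).symm (E_kernel f hX hY)

lemma E_image {X Y : Ind C} (f : X ⟶ Y) (hX : E X) (hY : E Y) : E (Abelian.image f) :=
  E_kernel _ hY (E_cokernel f hX hY)

lemma E_imageSubobject {X Y : Ind C} (f : X ⟶ Y) (hX : E X) (hY : E Y) :
    E ((imageSubobject f : Subobject Y) : Ind C) :=
  E_of_iso (imageSubobjectIso f ≪≫ (Abelian.imageIsoImage f).symm).symm (E_image f hX hY)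

lemma E_zero (Z : Ind C) (hZ : IsZero Z) : E Z := by
  have h0 : IsZero (Ind.yoneda.obj (0 : C)) := Ind.yoneda.map_isZero (isZero_zero C)
  exact ⟨0, ⟨h0.iso hZ⟩⟩

/-- objects of the essential image are killed by a power of `p` when those of `C` are. -/
lemma exists_mu_eq_zero (p : ℕ) (htor : ∀ X : C, ∃ n : ℕ, (p ^ n) • 𝟙 X = 0) {X : Ind C}
    (hX : E X) : ∃ n : ℕ, mu X (p ^ n) = 0 := by
  obtain ⟨X₀, ⟨e⟩⟩ := hX
  obtain ⟨n, hn⟩ := htor X₀
  refine ⟨n, ?_⟩
  have h1 : mu (Ind.yoneda.obj X₀) (p ^ n) = 0 := by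
    unfold mu
    rw [← Ind.yoneda.map_id, ← Functor.map_nsmul, hn, Functor.map_zero]
  rw [← cancel_epi e.hom, comp_zero, ← mu_naturality, h1, zero_comp]

/-- descending chains of subobjects lying in the essential image are stationary. -/
theorem dcc_E (hart : ∀ X : C, IsArtinianObject X) {X : Ind C}
    (S : ℕ → Subobject X) (hS : Antitone S) (hE : ∀ n, E ((S n : Subobject X) : Ind C)) :
    ∃ N : ℕ, ∀ n : ℕ, N ≤ n → S n = S N := by
  choose T₀ hT₀ using hE
  let e : ∀ n, Ind.yoneda.obj (T₀ n) ≅ ((S n : Subobject X) : Ind C) := fun n => (hT₀ n).some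
  let X₀ : C := T₀ 0
  let b : ∀ n, ((S n : Subobject X) : Ind C) ⟶ ((S 0 : Subobject X) : Ind C) :=
    fun n => Subobject.ofLE _ _ (hS (Nat.zero_le n))
  have hb : ∀ n, b n ≫ (S 0).arrow = (S n).arrow := fun n => Subobject.ofLE_arrow _
  haveI : ∀ n, Mono (b n) := fun n => inferInstance
  let a : ∀ n, T₀ n ⟶ X₀ := fun n => Ind.yoneda.preimage ((e n).hom ≫ b n ≫ (e 0).inv)
  have ha : ∀ n, Ind.yoneda.map (a n) = (e n).hom ≫ b n ≫ (e 0).inv :=
    fun n => Functor.map_preimage _ _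
  haveI : ∀ n, Mono (a n) := by
    intro n
    apply Ind.yoneda.mono_of_mono_map
    rw [ha]
    infer_instance
  let T : ℕ → Subobject X₀ := fun n => Subobject.mk (a n)
  have hle : ∀ {m n : ℕ}, S m ≤ S n ↔ T m ≤ T n := by
    intro m n
    constructor
    · intro h
      refine Subobject.mk_le_mk_of_comm
        (Ind.yoneda.preimage ((e m).hom ≫ Subobject.ofLE _ _ h ≫ (e n).inv)) ?_
      apply Ind.yoneda.map_injective
      rw [Functor.map_comp, Functor.map_preimage, ha, ha]
      simp only [Category.assoc, Iso.inv_hom_id_assoc]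
      congr 1
      have h4 : Subobject.ofLE _ _ h ≫ b n = b m := by
        rw [← cancel_mono (S 0).arrow, Category.assoc, hb, hb, Subobject.ofLE_arrow]
      rw [← Category.assoc, h4]
    · intro h
      refine Subobject.le_of_comm ((e m).inv ≫ Ind.yoneda.map (Subobject.ofMkLEMk _ _ h) ≫
        (e n).hom) ?_
      have h1 : Subobject.ofMkLEMk (a m) (a n) h ≫ a n = a m := Subobject.ofMkLEMk_comp h
      have h2 := congrArg (fun k => Ind.yoneda.map k) h1
      simp only [Functor.map_comp, ha] at h2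
      have h3 : Ind.yoneda.map (Subobject.ofMkLEMk (a m) (a n) h) ≫ (e n).hom ≫ b n =
          (e m).hom ≫ b m := by
        rw [← cancel_mono (e 0).inv]
        simpa only [Category.assoc] using h2
      rw [← hb n, ← hb m]
      have h5 : (e m).inv ≫ (Ind.yoneda.map (Subobject.ofMkLEMk (a m) (a n) h) ≫ (e n).hom) ≫ b n =
          b m := by
        rw [Category.assoc, h3, Iso.inv_hom_id_assoc]
      rw [← h5]
      simp only [Category.assoc]
  haveI := hart X₀
  have hT : Antitone T := fun m n hmn => hle.1 (hS hmn)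
  obtain ⟨N, hN⟩ := antitone_chain_condition_of_isArtinianObject
    (X := X₀) ⟨fun n => OrderDual.toDual (T n), fun m n hmn => hT hmn⟩
  refine ⟨N, fun n hn => le_antisymm (hS hn) (hle.2 ?_)⟩
  have h := hN n hn
  have h' : T N = T n := congrArg OrderDual.ofDual h
  exact h'.le

end Groth.Agent.Lib.Helper23.IndCof
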