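import Groth.Agent.Lib.Helper23.IndCof.DivPart

/-!
# Helper23 — IndCof.MittagLeffler: the multiplication system of an object is Mittag-Leffler iff
the object is divisible up to bounded torsion
-/

set_option autoImplicit false
set_option linter.style.haveILetI false
set_option linter.unusedSectionVars false
universe w v u

namespace Groth.Agent.Lib.Helper23.IndCof

open CategoryTheory
open CategoryTheory.Limits hiding im
open Groth.Agent.Lib.Helper23.AR.SubCalc Groth.Agent.Lib.Helper8.SubLat1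

variable {𝒜 : Type u} [Category.{v} 𝒜] [Abelian 𝒜]

lemma D_arrow_comp_cokernel (B : 𝒜) (m : ℕ) :
    mu B m ≫ cokernel.π (D B m).arrow = 0 := by
  unfold D
  have h : mu B m ≫ cokernel.π (imageSubobject (mu B m)).arrow =
      factorThruImageSubobject (mu B m) ≫ (imageSubobject (mu B m)).arrow ≫
        cokernel.π (imageSubobject (mu B m)).arrow := by
    rw [imageSubobject_arrow_comp_assoc]
  rw [h, cokernel.condition, comp_zero]

lemma mu_cokernel_D_eq_zero (B : 𝒜) (m : ℕ) : mu (cokernel (D B m).arrow) m = 0 := by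
  rw [← cancel_epi (cokernel.π (D B m).arrow), comp_zero, ← mu_naturality, D_arrow_comp_cokernel]

/-- if `M` kills `B / B'` then `M B ≤ B'`. -/
lemma D_le_of_mu_cokernel_eq_zero (B : 𝒜) (B' : Subobject B) (M : ℕ)
    (h : mu (cokernel B'.arrow) M = 0) : D B M ≤ B' := by
  rw [D_eq, im_le_iff]
  apply le_of_eq
  symm
  rw [eq_top_iff]
  apply Subobject.le_of_factors
  rw [pb_factors_iff]
  have h0 : ((⊤ : Subobject B).arrow ≫ mu B M) ≫ cokernel.π B'.arrow = 0 := by
    rw [Category.assoc, mu_naturality, h, comp_zero, comp_zero]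
  rw [← Abelian.monoLift_comp B'.arrow _ h0]
  exact Subobject.factors_comp_arrow _

theorem mittagLeffler_iff (B : 𝒜) :
    ((∀ n : ℕ, 0 < n → ∃ m : ℕ, 0 < m ∧ n ∣ m ∧ ∀ m' : ℕ, 0 < m' → m ∣ m' →
        D B (m' / n) = D B (m / n)) ↔
      ∃ B' : Subobject B, (∀ k : ℕ, 0 < k → Epi (mu (B' : 𝒜) k)) ∧
        ∃ M : ℕ, 0 < M ∧ mu (cokernel B'.arrow) M = 0) ∧
    (∀ B' : Subobject B, (∀ k : ℕ, 0 < k → Epi (mu (B' : 𝒜) k)) →
      (∃ M : ℕ, 0 < M ∧ mu (cokernel B'.arrow) M = 0) →
      ∀ D' : Subobject B, (∀ k : ℕ, 0 < k → Epi (mu (D' : 𝒜) k)) → D' ≤ B') := by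
  have key : ∀ (B' : Subobject B) (M : ℕ), 0 < M → mu (cokernel B'.arrow) M = 0 →
      ∀ D' : Subobject B, (∀ k : ℕ, 0 < k → Epi (mu (D' : 𝒜) k)) → D' ≤ B' := by
    intro B' M hM hMB D' hD'
    have h1 : im (mu B M) D' = D' := (epi_mu_iff D' M).1 (hD' M hM)
    calc D' = im (mu B M) D' := h1.symm
      _ ≤ im (mu B M) ⊤ := im_mono _ le_top
      _ = D B M := (D_eq B M).symm
      _ ≤ B' := D_le_of_mu_cokernel_eq_zero B B' M hMB
  refine ⟨⟨?_, ?_⟩, ?_⟩
  · intro h
    obtain ⟨m, hm, -, hm'⟩ := h 1 Nat.one_pos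
    simp only [Nat.div_one] at hm'
    refine ⟨D B m, ?_, m, hm, mu_cokernel_D_eq_zero B m⟩
    intro k hk
    rw [epi_mu_iff, im_D]
    exact hm' (m * k) (Nat.mul_pos hm hk) (dvd_mul_right m k)
  · rintro ⟨B', hdiv, M, hM, hMB⟩
    have hD : ∀ j : ℕ, 0 < j → D B (M * j) = B' := by
      intro j hj
      apply le_antisymm
      · exact (D_le_of_dvd B (dvd_mul_right M j)).trans
          (D_le_of_mu_cokernel_eq_zero B B' M hMB)
      · have h1 : im (mu B (M * j)) B' = B' :=
          (epi_mu_iff B' (M * j)).1 (hdiv _ (Nat.mul_pos hM hj))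
        calc B' = im (mu B (M * j)) B' := h1.symm
          _ ≤ im (mu B (M * j)) ⊤ := im_mono _ le_top
          _ = D B (M * j) := (D_eq B _).symm
    intro n hn
    refine ⟨n * M, Nat.mul_pos hn hM, dvd_mul_right n M, ?_⟩
    intro m' hm' hdvd
    obtain ⟨j, rfl⟩ := hdvd
    have hj : 0 < j := by
      rcases Nat.eq_zero_or_pos j with h0 | h0
      · rw [h0, mul_zero] at hm'
        omega
      · exact h0
    rw [mul_assoc, Nat.mul_div_cancel_left _ hn, Nat.mul_div_cancel_left _ hn, hD j hj]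
    have := hD 1 Nat.one_pos
    rw [mul_one] at this
    exact this.symm
  · rintro B' hdiv ⟨M, hM, hMB⟩
    exact key B' M hM hMB

end Groth.Agent.Lib.Helper23.IndCof
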