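import Groth.Agent.Lib.Helper23.IndCof.Quot

/-!
# Helper23 — IndCof.PTrans: from `p`-power torsion to general torsion
-/

set_option autoImplicit false
set_option linter.style.haveILetI false
set_option linter.unusedSectionVars false
universe w v u

namespace Groth.Agent.Lib.Helper23.IndCof

open CategoryTheory
open CategoryTheory.Limits hiding im
open Groth.Agent.Lib.Helper23.AR.SubCalc Groth.Agent.Lib.Helper8.SubLat1

variable {C : Type v} [SmallCategory C] [Abelian C]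

lemma htor_of_pow (p : ℕ) (hp : 0 < p) (htor : ∀ X : C, ∃ n : ℕ, (p ^ n) • 𝟙 X = 0) :
    ∀ X : C, ∃ n : ℕ, 0 < n ∧ n • 𝟙 X = 0 := by
  intro X
  obtain ⟨n, hn⟩ := htor X
  exact ⟨p ^ n, Nat.pow_pos hp, hn⟩

/-- prime-to-`p` torsion vanishes in a `p`-power torsion category. -/
lemma K_eq_bot_of_coprime (p : ℕ) (htor : ∀ X : C, ∃ n : ℕ, (p ^ n) • 𝟙 X = 0) (A : Ind C)
    {m : ℕ} (hm : Nat.Coprime m p) : K A m = ⊥ := by
  calc K A m = K A m ⊓ ⊤ := (inf_top_eq _).symm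
    _ = K A m ⊓ ⨆ k : ℕ, K A (p ^ k) := by rw [iSup_K_eq_top p htor A]
    _ = ⨆ k : ℕ, K A m ⊓ K A (p ^ k) := inf_iSup_nat _ (K_pow_mono A p) _
    _ = ⊥ := by
      rw [eq_bot_iff]
      exact iSup_le fun k => (K_inf_K_of_coprime A (Nat.Coprime.pow_right k hm)).le

theorem Cof.of_pow (p : ℕ) (htor : ∀ X : C, ∃ n : ℕ, (p ^ n) • 𝟙 X = 0) (A : Ind C)
    (hA : ∀ n : ℕ, E (kernel ((p ^ n) • 𝟙 A))) : Cof A := by
  intro m hm
  obtain ⟨i, m₂, hc, hle⟩ := exists_K_le_sup A p m hm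
  rw [K_eq_bot_of_coprime p htor A hc, sup_bot_eq] at hle
  have h := E_inf_pb (mu A m) (K A (p ^ i)) (K A (p ^ i)) ⊥ (E_K p A hA i) (E_K p A hA i)
    (E_bot A) bot_le (im_K_le (mu A m) (p ^ i))
  rw [pb_bot] at h
  have h2 : K A (p ^ i) ⊓ kernelSubobject (mu A m) = K A m := inf_eq_right.2 hle
  rwa [h2] at h

lemma Cof.pow {A : Ind C} (hA : Cof A) (p : ℕ) (hp : 0 < p) (n : ℕ) :
    E (kernel ((p ^ n) • 𝟙 A)) :=
  (cof_iff A).1 hA _ (Nat.pow_pos hp)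

end Groth.Agent.Lib.Helper23.IndCof
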