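import Groth.Agent.Lib.Helper23.IndCof.FinSub

/-!
# Helper23 — IndCof.Quot: quotients, images and cokernels of cofinite type ind-objects
-/

set_option autoImplicit false
set_option linter.style.haveILetI false
set_option linter.unusedSectionVars false
universe w v u

namespace Groth.Agent.Lib.Helper23.IndCof

open CategoryTheory
open CategoryTheory.Limits hiding im
open Groth.Agent.Lib.Helper23.AR.SubCalc Groth.Agent.Lib.Helper8.SubLat1

variable {C : Type v} [SmallCategory C] [Abelian C] {A : Ind C}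

/-- the quotient of a cofinite type ind-object by a cofinite type subobject is of cofinite type. -/
theorem Cof.cokernel_arrow (hA : Cof A) (hart : ∀ X : C, IsArtinianObject X)
    (htor : ∀ X : C, ∃ n : ℕ, 0 < n ∧ n • 𝟙 X = 0) (S : Subobject A)
    (hS : Cof ((S : Subobject A) : Ind C)) : Cof (cokernel S.arrow) := by
  intro m hm
  obtain ⟨N, hN⟩ := hS.exists_D_stab hart htor m hm
  have hmN : 0 < m ^ N := Nat.pow_pos hm
  have hmN' : 0 < m * m ^ N := Nat.mul_pos hm hmN
  have h1 := D_sup_K_eq_top_of_stab m ((S : Subobject A) : Ind C) N hN N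
  have hdecomp : im (mu A (m ^ N)) S ⊔ (S ⊓ K A (m ^ N)) = S := by
    have := congrArg (im S.arrow) h1
    rw [im_sup, im_arrow_D, im_arrow_K, im_arrow_top] at this
    exact this
  have hdiv : im (mu A m) (im (mu A (m ^ N)) S) = im (mu A (m ^ N)) S := by
    rw [← im_comp, mu_comp, ← pow_succ, ← im_arrow_D, hN (N + 1) (by omega), im_arrow_D]
  have hT : pb (mu A m) S = im (mu A (m ^ N)) S ⊔ pb (mu A m) (S ⊓ K A (m ^ N)) := by
    calc pb (mu A m) S
        = pb (mu A m) (im (mu A m) (im (mu A (m ^ N)) S) ⊔ (S ⊓ K A (m ^ N))) := by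
          rw [hdiv, hdecomp]
      _ = _ := pb_im_sup _ _ _
  have hDS : im (mu A (m ^ N)) S ≤ S := by
    rw [← im_arrow_D]
    exact im_arrow_le _ _
  have hSle : S ≤ pb (mu A m) S := by
    rw [← im_le_iff, ← im_arrow_D]
    exact im_arrow_le _ _
  have hTfS : pb (mu A m) (S ⊓ K A (m ^ N)) ⊔ S = pb (mu A m) S := by
    apply le_antisymm
    · exact sup_le (pb_mono _ inf_le_left) hSle
    · rw [hT]
      exact sup_le (hDS.trans le_sup_right) le_sup_left
  have him : im (cokernel.π S.arrow) (pb (mu A m) (S ⊓ K A (m ^ N))) = K (cokernel S.arrow) m := by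
    have e1 : im (cokernel.π S.arrow) (pb (mu A m) (S ⊓ K A (m ^ N)) ⊔ S) =
        im (cokernel.π S.arrow) (pb (mu A m) (S ⊓ K A (m ^ N))) := by
      rw [im_sup, im_cokernel_π_self, sup_bot_eq]
    rw [← e1, hTfS, ← pb_K_quot, im_pb_of_epi]
  have hU : pb (mu A m) (S ⊓ K A (m ^ N)) ≤ K A (m * m ^ N) := by
    rw [← pb_K]
    exact pb_mono _ inf_le_right
  have hETf : E ((pb (mu A m) (S ⊓ K A (m ^ N)) : Subobject A) : Ind C) := by
    have h := E_inf_pb (mu A m) (K A (m * m ^ N)) (K A (m ^ N)) (S ⊓ K A (m ^ N))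
      (hA _ hmN') (hA _ hmN) (Cof.E_inf_K S hS _ hmN) inf_le_right
      (by rw [im_K]; exact inf_le_right)
    rwa [inf_eq_right.2 hU] at h
  have hker : kernelSubobject ((pb (mu A m) (S ⊓ K A (m ^ N))).arrow ≫ cokernel.π S.arrow) =
      pb (pb (mu A m) (S ⊓ K A (m ^ N))).arrow S := by
    rw [← pb_bot, pb_comp, pb_cokernel_π_bot]
  have hEk : E ((kernelSubobject
      ((pb (mu A m) (S ⊓ K A (m ^ N))).arrow ≫ cokernel.π S.arrow) : Subobject _) : Ind C) := by
    rw [hker]
    refine E_of_iso (pbArrowIso _ S).symm ?_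
    have h2 : pb (mu A m) (S ⊓ K A (m ^ N)) ⊓ S =
        pb (mu A m) (S ⊓ K A (m ^ N)) ⊓ (S ⊓ K A (m * m ^ N)) :=
      le_antisymm (le_inf inf_le_left (le_inf inf_le_right (inf_le_left.trans hU)))
        (inf_le_inf_left _ inf_le_left)
    rw [h2]
    exact E_inf _ _ (K A (m * m ^ N)) hETf (Cof.E_inf_K S hS _ hmN') (hA _ hmN') hU inf_le_right
  have hfin := E_imageSubobject_of_kernel _ hETf hEk
  rw [← him]
  exact hfin

/-- the image of a morphism of cofinite type ind-objects is of cofinite type. -/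
theorem Cof.imSub {B : Ind C} (hA : Cof A) (hB : Cof B)
    (hart : ∀ X : C, IsArtinianObject X)
    (htor : ∀ X : C, ∃ n : ℕ, 0 < n ∧ n • 𝟙 X = 0) (f : A ⟶ B) :
    Cof ((imageSubobject f : Subobject B) : Ind C) :=
  Cof.of_iso (imageSubobjectIsoCokernel f).symm
    (hA.cokernel_arrow hart htor _ (hA.kerSub hB f))

/-- the cokernel of a morphism of cofinite type ind-objects is of cofinite type. -/
theorem Cof.coker {B : Ind C} (hA : Cof A) (hB : Cof B)
    (hart : ∀ X : C, IsArtinianObject X)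
    (htor : ∀ X : C, ∃ n : ℕ, 0 < n ∧ n • 𝟙 X = 0) (f : A ⟶ B) :
    Cof (cokernel f) :=
  Cof.of_iso (cokernelImageSubobjectIso f).symm
    (hB.cokernel_arrow hart htor _ (hA.imSub hB hart htor f))

/-- the kernel of a morphism of cofinite type ind-objects is of cofinite type. -/
theorem Cof.ker {B : Ind C} (hA : Cof A) (hB : Cof B) (f : A ⟶ B) :
    Cof (kernel f) :=
  Cof.of_iso (kernelSubobjectIso f) (hA.kerSub hB f)

end Groth.Agent.Lib.Helper23.IndCof
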