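import Groth.Agent.Lib.Helper23.IndCof.Torsion

/-!
# Helper23 — IndCof.Stab: stabilization of the images `p^n A`
-/

set_option autoImplicit false
set_option linter.style.haveILetI false
set_option linter.unusedSectionVars false
universe w v u

namespace Groth.Agent.Lib.Helper23.IndCof

open CategoryTheory
open CategoryTheory.Limits hiding im
open Groth.Agent.Lib.Helper23.AR.SubCalc Groth.Agent.Lib.Helper8.SubLat1

section Abstract

variable {𝒜 : Type u} [Category.{v} 𝒜] [Abelian 𝒜] [IsGrothendieckAbelian.{w} 𝒜]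

lemma K_pow_mono (A : 𝒜) (p : ℕ) : Monotone (fun k : ℕ => K A (p ^ k)) :=
  monotone_nat_of_le_succ (fun k => K_le_of_dvd A (pow_dvd_pow p (Nat.le_succ k)))

lemma D_pow_anti (A : 𝒜) (p : ℕ) {m n : ℕ} (h : m ≤ n) : D A (p ^ n) ≤ D A (p ^ m) :=
  D_le_of_dvd A (pow_dvd_pow p h)

/-- if `p^n A ∩ A[p]` is constant for `n ≥ N` and `A` is `p`-power torsion then `p^n A` is constant
for `n ≥ N`. -/
theorem D_stab (A : 𝒜) (p : ℕ) (h1 : (⨆ k : ℕ, K A (p ^ k)) = ⊤) (N : ℕ)
    (h2 : ∀ n, N ≤ n → D A (p ^ n) ⊓ K A p = D A (p ^ N) ⊓ K A p) :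
    ∀ n, N ≤ n → D A (p ^ n) = D A (p ^ N) := by
  have step : ∀ n, N ≤ n → D A (p ^ n) ≤ D A (p ^ (n + 1)) := by
    intro n hn
    have claim : ∀ k, D A (p ^ n) ⊓ K A (p ^ k) ≤ D A (p ^ (n + 1)) := by
      intro k
      induction k with
      | zero =>
        rw [pow_zero, K_one_eq_bot, inf_bot_eq]
        exact bot_le
      | succ k ih =>
        have e1 : im (mu A (p ^ k)) (D A (p ^ n) ⊓ K A (p ^ (k + 1))) ≤
            D A (p ^ (n + k)) ⊓ K A p := by
          apply le_inf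
          · calc im (mu A (p ^ k)) (D A (p ^ n) ⊓ K A (p ^ (k + 1)))
                ≤ im (mu A (p ^ k)) (D A (p ^ n)) := im_mono _ inf_le_left
              _ = D A (p ^ n * p ^ k) := im_D A (p ^ k) (p ^ n)
              _ = D A (p ^ (n + k)) := by rw [pow_add]
          · calc im (mu A (p ^ k)) (D A (p ^ n) ⊓ K A (p ^ (k + 1)))
                ≤ im (mu A (p ^ k)) (K A (p ^ (k + 1))) := im_mono _ inf_le_right
              _ = im (mu A (p ^ k)) (K A (p ^ k * p)) := by rw [pow_succ]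
              _ = D A (p ^ k) ⊓ K A p := im_K A (p ^ k) p
              _ ≤ K A p := inf_le_right
        have e2 : D A (p ^ (n + k)) ⊓ K A p = D A (p ^ (n + k + 1)) ⊓ K A p := by
          rw [h2 (n + k) (by omega), h2 (n + k + 1) (by omega)]
        have e3 : im (mu A (p ^ k)) (D A (p ^ n) ⊓ K A (p ^ (k + 1))) ≤
            im (mu A (p ^ k)) (D A (p ^ (n + 1))) := by
          rw [im_D, ← pow_add]
          calc im (mu A (p ^ k)) (D A (p ^ n) ⊓ K A (p ^ (k + 1)))
              ≤ D A (p ^ (n + k)) ⊓ K A p := e1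
            _ = D A (p ^ (n + k + 1)) ⊓ K A p := e2
            _ ≤ D A (p ^ (n + k + 1)) := inf_le_left
            _ = D A (p ^ (n + 1 + k)) := by
              have : n + k + 1 = n + 1 + k := by omega
              rw [this]
        have e4 : D A (p ^ n) ⊓ K A (p ^ (k + 1)) ≤ D A (p ^ (n + 1)) ⊔ K A (p ^ k) := by
          rw [← pb_im_mu, ← im_le_iff]
          exact e3
        calc D A (p ^ n) ⊓ K A (p ^ (k + 1))
            ≤ (D A (p ^ (n + 1)) ⊔ K A (p ^ k)) ⊓ D A (p ^ n) := le_inf e4 inf_le_left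
          _ = D A (p ^ (n + 1)) ⊔ K A (p ^ k) ⊓ D A (p ^ n) :=
              sup_inf_assoc_of_le _ (D_pow_anti A p (Nat.le_succ n))
          _ ≤ D A (p ^ (n + 1)) := sup_le le_rfl (by rw [inf_comm]; exact ih)
    calc D A (p ^ n) = D A (p ^ n) ⊓ ⊤ := (inf_top_eq _).symm
      _ = D A (p ^ n) ⊓ ⨆ k : ℕ, K A (p ^ k) := by rw [h1]
      _ = ⨆ k : ℕ, D A (p ^ n) ⊓ K A (p ^ k) := inf_iSup_nat _ (K_pow_mono A p) _
      _ ≤ D A (p ^ (n + 1)) := iSup_le claim
  intro n hn
  induction n, hn using Nat.le_induction with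
  | base => rfl
  | succ n hn ih => exact (le_antisymm (D_pow_anti A p (Nat.le_succ n)) (step n hn)).trans ih

end Abstract

section Ind

variable {C : Type v} [SmallCategory C] [Abelian C]

/-- the image of a subobject in the essential image, when it lands in such a subobject, is in the
essential image. -/
lemma E_im {X : Ind C} (f : X ⟶ X) (S T : Subobject X) (hS : E ((S : Subobject X) : Ind C))
    (hT : E ((T : Subobject X) : Ind C)) (h : im f S ≤ T) :
    E ((im f S : Subobject X) : Ind C) := by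
  have hfac : T.Factors (S.arrow ≫ f) := by
    rw [← pb_factors_iff]
    exact Subobject.factors_of_le _ ((im_le_iff f S T).1 h) (Subobject.factors_self S)
  let ψ : ((S : Subobject X) : Ind C) ⟶ ((T : Subobject X) : Ind C) :=
    T.factorThru (S.arrow ≫ f) hfac
  have hψ : ψ ≫ T.arrow = S.arrow ≫ f := Subobject.factorThru_arrow _ _ hfac
  have e1 : Limits.image ψ ≅ Limits.image (S.arrow ≫ f) :=
    image.isoStrongEpiMono (factorThruImage ψ) (image.ι ψ ≫ T.arrow)
      (by rw [← Category.assoc, image.fac, hψ])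
  have h1 : E (Limits.image ψ) := E_of_iso (imageSubobjectIso ψ) (E_imageSubobject ψ hS hT)
  exact E_of_iso (e1 ≪≫ (imageSubobjectIso (S.arrow ≫ f)).symm) h1

variable (p : ℕ) (A : Ind C)

lemma E_K (hA : ∀ n : ℕ, E (kernel ((p ^ n) • 𝟙 A))) (n : ℕ) :
    E ((K A (p ^ n) : Subobject A) : Ind C) :=
  E_of_iso (kernelSubobjectIso _).symm (hA n)

lemma E_K_one (hA : ∀ n : ℕ, E (kernel ((p ^ n) • 𝟙 A))) :
    E ((K A p : Subobject A) : Ind C) := by
  have h := E_K p A hA 1
  rwa [pow_one] at h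

/-- `p^n A ∩ A[p]` is in the essential image. -/
lemma E_D_inf_K (hA : ∀ n : ℕ, E (kernel ((p ^ n) • 𝟙 A))) (n : ℕ) :
    E ((D A (p ^ n) ⊓ K A p : Subobject A) : Ind C) := by
  rw [← im_K]
  refine E_im _ _ (K A p) ?_ (E_K_one p A hA) ?_
  · have h := E_K p A hA (n + 1)
    rwa [pow_succ] at h
  · rw [im_K]
    exact inf_le_right

/-- **S14494**: the images `p^n A` are stationary. -/
theorem exists_D_stab (hart : ∀ X : C, IsArtinianObject X)
    (htor : ∀ X : C, ∃ n : ℕ, (p ^ n) • 𝟙 X = 0)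
    (hA : ∀ n : ℕ, E (kernel ((p ^ n) • 𝟙 A))) :
    ∃ N : ℕ, ∀ n : ℕ, N ≤ n → D A (p ^ n) = D A (p ^ N) := by
  obtain ⟨N, hN⟩ := dcc_E hart (fun n => D A (p ^ n) ⊓ K A p)
    (fun m n hmn => inf_le_inf_right _ (D_pow_anti A p hmn)) (E_D_inf_K p A hA)
  exact ⟨N, D_stab A p (iSup_K_eq_top p htor A) N hN⟩

end Ind

end Groth.Agent.Lib.Helper23.IndCof
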