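import Groth.Agent.Lib.Helper23.IndCof.IndBasic
import Groth.Agent.Lib.Helper26.GabLocClosed
import Mathlib.CategoryTheory.Generator.Indization

/-!
# Helper23 — IndCof.Torsion: ind-objects of a torsion category are unions of their torsion parts; AB5 for sequences
-/

set_option autoImplicit false
set_option linter.style.haveILetI false
set_option linter.unusedSectionVars false
universe w v u

namespace Groth.Agent.Lib.Helper23.IndCof

open CategoryTheory
open CategoryTheory.Limits hiding im
open Groth.Agent.Lib.Helper23.AR.SubCalc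

section AB5

variable {𝒜 : Type u} [Category.{v} 𝒜] [Abelian 𝒜] [IsGrothendieckAbelian.{w} 𝒜]

/-- the AB5 modular law for increasing sequences of subobjects. -/
theorem inf_iSup_nat {X : 𝒜} (Y : ℕ → Subobject X) (hY : Monotone Y) (B : Subobject X) :
    B ⊓ (⨆ n, Y n) = ⨆ n, B ⊓ Y n := by
  apply le_antisymm _ (iSup_le fun n => inf_le_inf_left B (le_iSup Y n))
  let Y' : ULift.{w} ℕ → Subobject X := fun k => Y k.down
  have hY' : Monotone Y' := fun a b hab => hY hab
  have h := Groth.Agent.Lib.Helper26.GabLocClosed.inf_iSup_le hY'.functor B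
  have e1 : (⨆ k, hY'.functor.obj k) = ⨆ n, Y n :=
    le_antisymm (iSup_le fun k => le_iSup Y k.down) (iSup_le fun n => le_iSup (fun k => hY'.functor.obj k) ⟨n⟩)
  have e2 : (⨆ k, B ⊓ hY'.functor.obj k) = ⨆ n, B ⊓ Y n :=
    le_antisymm (iSup_le fun k => le_iSup (fun n => B ⊓ Y n) k.down)
      (iSup_le fun n => le_iSup (fun k => B ⊓ hY'.functor.obj k) ⟨n⟩)
  rw [e1, e2] at h
  exact h

end AB5

variable {C : Type v} [SmallCategory C] [Abelian C]

/-- every ind-object of a `p`-power torsion category is the union of its `p^n`-torsion parts. -/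
theorem iSup_K_eq_top (p : ℕ) (htor : ∀ X : C, ∃ n : ℕ, (p ^ n) • 𝟙 X = 0) (A : Ind C) :
    (⨆ n : ℕ, K A (p ^ n)) = ⊤ := by
  let S : Subobject A := ⨆ n : ℕ, K A (p ^ n)
  have hfac : ∀ (X₀ : C) (g : Ind.yoneda.obj X₀ ⟶ A), S.Factors g := by
    intro X₀ g
    obtain ⟨n, hn⟩ := exists_mu_eq_zero p htor (E_yoneda X₀)
    have h1 : (K A (p ^ n)).Factors g := by
      unfold K
      rw [kernelSubobject_factors_iff, ← mu_naturality, hn, zero_comp]
    exact Subobject.factors_of_le g (le_iSup (fun n => K A (p ^ n)) n) h1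
  haveI : Epi S.arrow := by
    constructor
    intro Z u v huv
    apply Ind.isSeparating_range_yoneda
    rintro G ⟨X₀⟩ h
    rw [← Subobject.factorThru_arrow S h (hfac X₀ h), Category.assoc, Category.assoc, huv]
  haveI : IsIso S.arrow := isIso_of_mono_of_epi _
  exact Subobject.eq_top_of_isIso_arrow S

end Groth.Agent.Lib.Helper23.IndCof
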